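import Mathlib
import Cfsg.Agent.Lib.Characters.Kernel

/-!
# Matrix units in a group algebra from an integral irreducible matrix representation
-/

set_option linter.style.haveILetI false
set_option linter.unusedSectionVars false

namespace Cfsg.Agent.Blocks.PrimeBlock

open Cfsg.Agent.Characters

variable {K : Type*} [Group K] [Fintype K] {d : ℕ}

/-- An averaged matrix commuting with an irreducible matrix representation is scalar. -/
theorem scalar_of_commute (V : K →* Matrix (Fin d) (Fin d) ℂ)
    (hirr : Cfsg.IsIrrCharacter K fun k => (V k).trace) (X : Matrix (Fin d) (Fin d) ℂ)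
    (hX : ∀ k, V k * X = X * V k) : ∃ c : ℂ, X = c • 1 := by
  classical
  set ρ : Representation ℂ K (Fin d → ℂ) :=
    (Matrix.toLinAlgEquiv' (R := ℂ) (n := Fin d)).toAlgHom.toRingHom.toMonoidHom.comp V
  obtain ⟨n, σ, hσ, hch⟩ := hirr
  haveI := hσ
  have hρch : ρ.character = σ.character := by
    rw [hch]
    funext k
    show LinearMap.trace ℂ _ (Matrix.toLinAlgEquiv' (V k)) = _
    rw [LinearMap.trace_eq_matrix_trace ℂ (Pi.basisFun ℂ (Fin d)), LinearMap.toMatrix_eq_toMatrix']
    exact congrArg Matrix.trace (LinearMap.toMatrix'_toLin' (V k))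
  obtain ⟨e⟩ := nonempty_equiv_of_character_eq ρ σ hρch
  set T := Matrix.toLinAlgEquiv' X
  have hT : ∀ k v, T (ρ k v) = ρ k (T v) := fun k v => by
    show (Matrix.toLinAlgEquiv' X * Matrix.toLinAlgEquiv' (V k)) v =
      (Matrix.toLinAlgEquiv' (V k) * Matrix.toLinAlgEquiv' X) v
    rw [← map_mul, ← map_mul, hX]
  have hint : ∀ k v, e.toLinearEquiv (ρ k v) = σ k (e.toLinearEquiv v) := fun k v =>
    e.toIntertwiningMap.isIntertwining _ _ k v
  obtain ⟨c, hc⟩ := schur_scalar σ
    (e.toLinearEquiv.toLinearMap ∘ₗ T ∘ₗ e.toLinearEquiv.symm.toLinearMap) fun k v => by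
    have h1 : e.toLinearEquiv.symm (σ k v) = ρ k (e.toLinearEquiv.symm v) :=
      e.toLinearEquiv.injective (by
        rw [LinearEquiv.apply_symm_apply, hint, LinearEquiv.apply_symm_apply])
    simp only [LinearMap.comp_apply, LinearEquiv.coe_coe]
    rw [h1, hT]
    exact hint _ _
  refine ⟨c, (Matrix.toLinAlgEquiv' (R := ℂ) (n := Fin d)).injective ?_⟩
  rw [map_smul, map_one]
  refine LinearMap.ext fun v => ?_
  have h2 := congrArg (fun f : Module.End ℂ (Fin n → ℂ) => f (e.toLinearEquiv v)) hc
  simp only [LinearMap.comp_apply, LinearEquiv.coe_coe, LinearEquiv.symm_apply_apply,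
    LinearMap.smul_apply, LinearMap.id_apply] at h2
  apply e.toLinearEquiv.injective
  rw [LinearMap.smul_apply, Module.End.one_apply, map_smul]
  exact h2

variable (hd : 0 < d) (V : K →* Matrix (Fin d) (Fin d) ℂ)
  (hirr : Cfsg.IsIrrCharacter K fun k => (V k).trace)

include hd hirr in
/-- Schur orthogonality of matrix coefficients. -/
theorem sum_coeff_mul (a b c e : Fin d) :
    ∑ k : K, V k⁻¹ b a * V k c e = if b = e ∧ a = c then (Nat.card K : ℂ) / d else 0 := by
  classical
  set X := ∑ k : K, V k⁻¹ * Matrix.single a c 1 * V k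
  obtain ⟨s, hs⟩ := scalar_of_commute V hirr X fun j => by
    simp only [X, Finset.mul_sum, Finset.sum_mul]
    refine Fintype.sum_equiv (Equiv.mulRight j⁻¹) _ _ fun k => ?_
    simp only [Equiv.coe_mulRight, mul_inv_rev, inv_inv, map_mul, Matrix.mul_assoc]
    rw [← map_mul V j⁻¹ j, inv_mul_cancel, map_one, Matrix.mul_one]
  have htr : X.trace = if a = c then (Nat.card K : ℂ) else 0 := by
    simp only [X, Matrix.trace_sum]
    rw [Finset.sum_congr rfl fun k _ => show (V k⁻¹ * Matrix.single a c (1 : ℂ) * V k).trace =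
      if a = c then (1 : ℂ) else 0 by
        rw [Matrix.trace_mul_cycle, ← map_mul, mul_inv_cancel, map_one, Matrix.one_mul]
        split_ifs with h
        · subst h; simp
        · exact Matrix.trace_single_eq_of_ne _ _ _ h]
    rw [Finset.sum_const, Finset.card_univ, ← Nat.card_eq_fintype_card, nsmul_eq_mul, mul_ite,
      mul_one, mul_zero]
  have hs' : s * d = if a = c then (Nat.card K : ℂ) else 0 := by
    rw [← htr, hs, Matrix.trace_smul, Matrix.trace_one, Fintype.card_fin, smul_eq_mul]
  have hlhs : ∑ k : K, V k⁻¹ b a * V k c e = X b e := by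
    simp only [X, Matrix.sum_apply]
    refine Finset.sum_congr rfl fun k _ => ?_
    rw [Matrix.mul_apply, Finset.sum_eq_single c]
    · rw [Matrix.mul_apply, Finset.sum_eq_single a] <;> simp +contextual [Matrix.single, eq_comm]
    · intro x _ hx
      rw [Matrix.mul_apply, Finset.sum_eq_zero (fun y _ => ?_), zero_mul]
      simp [Matrix.single, Ne.symm hx]
    · simp
  rw [hlhs, hs, Matrix.smul_apply, Matrix.one_apply, smul_eq_mul]
  have hd0 : (d : ℂ) ≠ 0 := Nat.cast_ne_zero.2 hd.ne'
  by_cases hbe : b = e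
  · by_cases hac : a = c
    · simp only [hbe, hac, and_self, if_true, mul_one]
      rw [if_pos hac] at hs'
      rw [eq_div_iff hd0, hs']
    · rw [if_neg hac] at hs'
      simp [hac, (mul_eq_zero.1 hs').resolve_right hd0]
  · simp [hbe]

include hd hirr in
/-- Summing a class function against the representation gives a scalar. -/
theorem sum_classFun_smul {f : K → ℂ} (hf : Cfsg.IsClassFunction K f) :
    ∑ k : K, f k • V k = ((∑ k : K, f k * (V k).trace) / d) • (1 : Matrix (Fin d) (Fin d) ℂ) := by
  classical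
  obtain ⟨s, hs⟩ := scalar_of_commute V hirr (∑ k : K, f k • V k) fun j => by
    simp only [Finset.mul_sum, Finset.sum_mul]
    refine Fintype.sum_equiv (MulAut.conj j).toEquiv _ _ fun k => ?_
    simp only [MulEquiv.toEquiv_eq_coe, MulEquiv.coe_toEquiv, MulAut.conj_apply, hf k j,
      mul_smul_comm, smul_mul_assoc, ← map_mul, inv_mul_cancel_right]
  have htr := congrArg Matrix.trace hs
  simp only [Matrix.trace_sum, Matrix.trace_smul, Matrix.trace_one, Fintype.card_fin,
    smul_eq_mul] at htr
  rw [hs, htr, mul_div_assoc, div_self (Nat.cast_ne_zero.2 hd.ne'), mul_one]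

end Cfsg.Agent.Blocks.PrimeBlock

namespace Cfsg.Agent.Blocks.PrimeBlock

variable {K : Type*} [Group K] [Fintype K] {d : ℕ} {R : Subring ℂ} {A : Type*} [Ring A] [Algebra R A]

/-- The matrix unit attached to `(b, c)`. -/
noncomputable def unit (s : R) (V : K →* Matrix (Fin d) (Fin d) R) (ρ : K →* A) (b c : Fin d) : A :=
  s • ∑ k : K, V k⁻¹ c b • ρ k

variable {s : R} {V : K →* Matrix (Fin d) (Fin d) R} {ρ : K →* A}

theorem map_mul_unit (k : K) (c e : Fin d) :
    ρ k * unit s V ρ c e = ∑ a, V k a c • unit s V ρ a e := by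
  simp only [unit, mul_smul_comm, Finset.mul_sum]
  rw [Finset.sum_congr rfl fun a _ => smul_comm (V k a c) s _, ← Finset.smul_sum]
  congr 1
  simp only [Finset.smul_sum, smul_smul]
  rw [Finset.sum_comm]
  refine Fintype.sum_equiv (Equiv.mulLeft k) _ _ fun j => ?_
  simp only [Equiv.coe_mulLeft, ← map_mul, ← Finset.sum_smul]
  congr 1
  have : j⁻¹ = (k * j)⁻¹ * k := by group
  rw [this, map_mul, Matrix.mul_apply]
  exact Finset.sum_congr rfl fun a _ => mul_comm _ _

variable (hd : 0 < d) (hs : (s : ℂ) * Nat.card K = d)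
  (hirr : Cfsg.IsIrrCharacter K fun k => (((V k).trace : R) : ℂ))

/-- The complexification. -/
noncomputable def cMat (V : K →* Matrix (Fin d) (Fin d) R) : K →* Matrix (Fin d) (Fin d) ℂ :=
  R.subtype.mapMatrix.toMonoidHom.comp V

theorem cMat_apply (k : K) (a b : Fin d) : cMat V k a b = (V k a b : ℂ) := rfl

theorem cMat_trace (k : K) : (cMat V k).trace = (((V k).trace : R) : ℂ) :=
  (AddMonoidHom.map_trace R.subtype.toAddMonoidHom (V k)).symm

include hd hs hirr in
theorem unit_mul_unit (a b c e : Fin d) :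
    unit s V ρ a b * unit s V ρ c e = if b = c then unit s V ρ a e else 0 := by
  classical
  conv_lhs => rw [unit, smul_mul_assoc, Finset.sum_mul,
    Finset.sum_congr rfl fun k _ => by rw [smul_mul_assoc, map_mul_unit, Finset.smul_sum]]
  rw [Finset.sum_comm, Finset.smul_sum]
  have key : ∀ x : Fin d, (s * ∑ k : K, V k⁻¹ b a * V k x c : R) =
      if b = c ∧ a = x then 1 else 0 := by
    intro x
    refine Subtype.ext ?_
    have h := sum_coeff_mul hd (cMat V) (by simpa only [cMat_trace] using hirr) a b x c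
    simp only [cMat_apply] at h
    push_cast
    rw [h]
    split_ifs
    · rw [mul_div_assoc', hs, div_self (Nat.cast_ne_zero.2 hd.ne')]; rfl
    · rw [mul_zero]; rfl
  rw [Finset.sum_congr rfl fun x _ => by
    rw [Finset.sum_congr rfl fun k _ => smul_smul _ _ _, ← Finset.sum_smul, smul_smul, key x]]
  split_ifs with h
  · simp [h, ite_smul]
  · simp [h]

end Cfsg.Agent.Blocks.PrimeBlock
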