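import Mathlib
import Cfsg.Agent.Lib.Blocks.StableBound
import Cfsg.Agent.Lib.Characters.SplittingField

/-!
# Integral representations over the local cyclotomic ring
-/

set_option linter.style.haveILetI false
set_option linter.unusedSectionVars false

namespace Cfsg.Agent.Blocks.PrimeBlock

open Module Cfsg.Agent.Characters

universe u

variable {p : ℕ} {M : Ideal Cfsg.AlgInt}

theorem exists_denom {η : ℂ} (hη : IsAlgebraic ℚ η) {z : ℂ}
    (hz : z ∈ IntermediateField.adjoin ℚ ({η} : Set ℂ)) :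
    ∃ N : ℕ, N ≠ 0 ∧ (N : ℂ) * z ∈ cycAlg η := by
  rw [← IntermediateField.mem_toSubalgebra,
    IntermediateField.adjoin_simple_toSubalgebra_of_isAlgebraic hη] at hz
  induction hz using Algebra.adjoin_induction with
  | mem x hx =>
    obtain rfl := Set.mem_singleton_iff.1 hx
    exact ⟨1, one_ne_zero, by rw [Nat.cast_one, one_mul]; exact self_mem_cycAlg _⟩
  | algebraMap q =>
    refine ⟨q.den, q.den_ne_zero, ?_⟩
    have hd : (q.den : ℂ) ≠ 0 := Nat.cast_ne_zero.2 q.den_ne_zero
    rw [eq_ratCast, Rat.cast_def, mul_div_cancel₀ _ hd]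
    exact intCast_mem _ _
  | add x y _ _ hx hy =>
    obtain ⟨a, ha, hax⟩ := hx
    obtain ⟨b, hb, hby⟩ := hy
    refine ⟨a * b, mul_ne_zero ha hb, ?_⟩
    have := add_mem (mul_mem (natCast_mem (cycAlg η) b) hax) (mul_mem (natCast_mem (cycAlg η) a) hby)
    convert this using 1
    push_cast; ring
  | mul x y _ _ hx hy =>
    obtain ⟨a, ha, hax⟩ := hx
    obtain ⟨b, hb, hby⟩ := hy
    refine ⟨a * b, mul_ne_zero ha hb, ?_⟩
    have := mul_mem hax hby
    convert this using 1
    push_cast; ring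

/-- A character afforded over the cyclotomic field is afforded by matrices over the local ring. -/
theorem exists_localRep_of_real (hM : Cfsg.IsPModular p M) {Q : Type u} [Group Q] [Finite Q]
    {χ : Q → ℂ} {m : ℕ} (hm : ¬ p ∣ m) {η : ℂ}
    (hη : IsPrimitiveRoot η m) (hηi : IsIntegral ℤ η)
    (hreal : SplittingField.Real (IntermediateField.adjoin ℚ ({η} : Set ℂ)) χ) :
    ∃ (d : ℕ) (V : Q →* Matrix (Fin d) (Fin d) (cycLocal hM hηi)),
      ∀ q, ((V q).trace : ℂ) = χ q := by
  classical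
  haveI := Fintype.ofFinite Q
  have hm0 : m ≠ 0 := fun e => hm (e ▸ dvd_zero p)
  set R := cycLocal hM hηi
  haveI : IsPrincipalIdealRing R :=
    isPrincipalIdealRing_localSub (exists_unif_unramified hM hm hη.pow_eq_one _)
  obtain ⟨n, τ, hτ⟩ := hreal
  have halg : IsAlgebraic ℚ η := (hηi.tower_top (A := ℚ)).isAlgebraic
  let A : Q → Matrix (Fin n) (Fin n) ℂ := fun q =>
    (LinearMap.toMatrix' (τ q)).map fun z => (z : ℂ)
  have hA1 : A 1 = 1 := by
    simp only [A, map_one, LinearMap.toMatrix'_one]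
    exact Matrix.map_one _ rfl rfl
  have hAmul : ∀ a b, A (a * b) = A a * A b := fun a b => by
    simp only [A, map_mul, LinearMap.toMatrix'_mul]
    exact Matrix.map_mul (f := (algebraMap (IntermediateField.adjoin ℚ ({η} : Set ℂ)) ℂ))
  have hAtr : ∀ q, (A q).trace = χ q := fun q => by
    rw [← hτ q]
    show (((LinearMap.toMatrix' (τ q)).map _).trace : ℂ) = _
    rw [Representation.character, LinearMap.trace_eq_matrix_trace _ (Pi.basisFun _ (Fin n)),
      LinearMap.toMatrix_eq_toMatrix']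
    exact (AddMonoidHom.map_trace (algebraMap
      (IntermediateField.adjoin ℚ ({η} : Set ℂ)) ℂ).toAddMonoidHom _).symm
  -- common denominator
  have hN : ∀ x : Q × Fin n × Fin n, ∃ N : ℕ, N ≠ 0 ∧ (N : ℂ) * A x.1 x.2.1 x.2.2 ∈ cycAlg η :=
    fun x => exists_denom halg (LinearMap.toMatrix' (τ x.1) x.2.1 x.2.2).2
  choose N hN0 hN using hN
  set D := ∏ x, N x
  have hD0 : (D : ℂ) ≠ 0 := Nat.cast_ne_zero.2 (Finset.prod_ne_zero_iff.2 fun x _ => hN0 x)
  have hD : ∀ q i j, (D : ℂ) * A q i j ∈ R := fun q i j => by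
    obtain ⟨c, hc⟩ : N (q, i, j) ∣ D := Finset.dvd_prod_of_mem _ (Finset.mem_univ (q, i, j))
    rw [hc, Nat.cast_mul, mul_right_comm, mul_comm]
    exact mul_mem (natCast_mem _ _) (mem_cycLocal hM hηi (hN (q, i, j)))
  let vec : Q × Fin n → Fin n → R := fun x i => ⟨_, hD x.1 i x.2⟩
  let W : Submodule R (Fin n → R) := Submodule.span R (Set.range vec)
  obtain ⟨r, b⟩ := Submodule.basisOfPid (Pi.basisFun R (Fin n)) W
  let P : Matrix (Fin n) (Fin r) ℂ := fun i j => ((b j : Fin n → R) i : ℂ)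
  have hP : ∀ w : W, ∀ i, ((w : Fin n → R) i : ℂ) = ∑ j, P i j * (b.repr w j : ℂ) := fun w i => by
    conv_lhs => rw [← b.sum_repr w]
    simp only [Finset.sum_apply, Submodule.coe_smul, Pi.smul_apply, smul_eq_mul,
      AddSubmonoidClass.coe_finsetSum, Subring.coe_mul, P]
    exact Finset.sum_congr rfl fun j _ => mul_comm _ _
  -- the columns span
  let Pinv : Matrix (Fin r) (Fin n) ℂ := fun j k =>
    (D : ℂ)⁻¹ * (b.repr ⟨vec (1, k), Submodule.subset_span ⟨(1, k), rfl⟩⟩ j : ℂ)
  have hPP : P * Pinv = 1 := by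
    ext i k
    rw [Matrix.mul_apply]
    calc ∑ j, P i j * Pinv j k = (D : ℂ)⁻¹ *
          ∑ j, P i j * (b.repr ⟨vec (1, k), Submodule.subset_span ⟨(1, k), rfl⟩⟩ j : ℂ) := by
          rw [Finset.mul_sum]
          exact Finset.sum_congr rfl fun j _ => by simp only [Pinv]; ring
      _ = (D : ℂ)⁻¹ * ((D : ℂ) * A 1 i k) := by rw [← hP]
      _ = (1 : Matrix (Fin n) (Fin n) ℂ) i k := by rw [inv_mul_cancel_left₀ hD0, hA1]
  have hr : r ≤ n := by
    have h1 := b.linearIndependent.map' W.subtype (Submodule.ker_subtype W)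
    have h2 := h1.fintype_card_le_finrank
    simpa using h2
  have hr' : n ≤ r := by
    have h1 := (Matrix.rank_mul_le_left P Pinv).trans (Matrix.rank_le_width P)
    rwa [hPP, Matrix.rank_one, Fintype.card_fin] at h1
  obtain rfl : r = n := le_antisymm hr hr'
  have hPP' : Pinv * P = 1 := mul_eq_one_comm.1 hPP
  -- the lattice is invariant
  have hinv : ∀ q, ∀ w ∈ W, ∃ w' ∈ W, ∀ i, ((w' : Fin r → R) i : ℂ) = ∑ j, A q i j * (w j : ℂ) := by
    intro q w hw
    induction hw using Submodule.span_induction with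
    | mem x hx =>
      obtain ⟨⟨q', k⟩, rfl⟩ := hx
      refine ⟨vec (q * q', k), Submodule.subset_span ⟨_, rfl⟩, fun i => ?_⟩
      show (D : ℂ) * A (q * q') i k = ∑ j, A q i j * ((D : ℂ) * A q' j k)
      rw [hAmul, Matrix.mul_apply, Finset.mul_sum]
      exact Finset.sum_congr rfl fun j _ => by ring
    | zero => exact ⟨0, zero_mem _, fun i => by simp⟩
    | add x y _ _ hx hy =>
      obtain ⟨x', hx', hx''⟩ := hx
      obtain ⟨y', hy', hy''⟩ := hy
      refine ⟨x' + y', add_mem hx' hy', fun i => ?_⟩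
      simp [hx'', hy'', mul_add, Finset.sum_add_distrib]
    | smul c x _ hx =>
      obtain ⟨x', hx', hx''⟩ := hx
      refine ⟨c • x', Submodule.smul_mem _ c hx', fun i => ?_⟩
      simp only [Pi.smul_apply, smul_eq_mul, Subring.coe_mul, hx'', Finset.mul_sum]
      exact Finset.sum_congr rfl fun j _ => by ring
  choose w hwW hw using fun q j => hinv q (b j : Fin r → R) (b j).2
  let Vf : Q → Matrix (Fin r) (Fin r) R := fun q i j => b.repr ⟨w q j, hwW q j⟩ i
  have hVf : ∀ q, A q * P = P * (Vf q).map (R.subtype) := fun q => by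
    ext i j
    rw [Matrix.mul_apply, Matrix.mul_apply, ← hw q j i]
    exact hP ⟨w q j, hwW q j⟩ i
  have hcancel : ∀ X Y : Matrix (Fin r) (Fin r) R,
      P * X.map R.subtype = P * Y.map R.subtype → X = Y := fun X Y h => by
    have h1 := congrArg (Pinv * ·) h
    simp only [← Matrix.mul_assoc, hPP', Matrix.one_mul] at h1
    exact Matrix.map_injective Subtype.val_injective h1
  refine ⟨r, { toFun := Vf
               map_one' := hcancel _ _ ?_
               map_mul' := fun a c => hcancel _ _ ?_ }, fun q => ?_⟩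
  · rw [← hVf, hA1, Matrix.map_one _ (map_zero _) (map_one _), Matrix.one_mul, Matrix.mul_one]
  · rw [← hVf, hAmul, Matrix.map_mul, ← Matrix.mul_assoc P, ← hVf, Matrix.mul_assoc (A a),
      Matrix.mul_assoc (A a), hVf c]
  · show R.subtype (Vf q).trace = _
    refine (AddMonoidHom.map_trace R.subtype.toAddMonoidHom _).trans ?_
    rw [← hAtr]
    show ((Vf q).map R.subtype).trace = _
    calc ((Vf q).map R.subtype).trace = (Pinv * (P * (Vf q).map R.subtype)).trace := by
          rw [← Matrix.mul_assoc, hPP', Matrix.one_mul]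
      _ = (A q).trace := by
          rw [← hVf, Matrix.trace_mul_comm, Matrix.mul_assoc, hPP, Matrix.mul_one]

/-- A character with exponent prime to `p` is afforded by matrices over the local ring. -/
theorem exists_localRep (hM : Cfsg.IsPModular p M) {Q : Type u} [Group Q] [Finite Q] {χ : Q → ℂ}
    (hχ : Cfsg.IsCharacter Q χ) {m : ℕ} (hm : ¬ p ∣ m) (hpow : ∀ q : Q, q ^ m = 1) {η : ℂ}
    (hη : IsPrimitiveRoot η m) (hηi : IsIntegral ℤ η) :
    ∃ (d : ℕ) (V : Q →* Matrix (Fin d) (Fin d) (cycLocal hM hηi)),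
      ∀ q, ((V q).trace : ℂ) = χ q := by
  haveI := Fintype.ofFinite Q
  exact exists_localRep_of_real hM hm hη hηi
    (SplittingField.real_of_isCharacter hpow (fun e => hm (e ▸ dvd_zero p)) hη hχ)

end Cfsg.Agent.Blocks.PrimeBlock
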