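import Mathlib
import Cfsg.Agent.Lib.Blocks.PrimeValues
import Cfsg.Agent.Lib.Blocks.Covering
import Cfsg.Agent.Lib.Blocks.Correspondents
import Cfsg.Agent.Lib.Blocks.CentralDefect

/-!
# The centraliser of a Sylow subgroup of order `p` and its blocks
-/

set_option linter.style.haveILetI false
set_option linter.unusedSectionVars false

namespace Cfsg.Agent.Blocks.PrimeBlock

open Cfsg.Agent.Characters Cfsg.Agent.Blocks
open scoped ComplexConjugate

universe u

variable {G : Type u} [Group G] [Finite G] {p : ℕ} [Fact p.Prime] {M : Ideal Cfsg.AlgInt}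
  {P : Sylow p G} {g : G} {K : Subgroup G} {h : G} {u : (ZMod p)ˣ}
  (D : PrimeData p P g K h u)

/-- The centraliser of the Sylow subgroup. -/
local notation "CP" => Subgroup.centralizer (((P : Subgroup G)) : Set G)

/-- The normaliser of the Sylow subgroup. -/
local notation "NP" => Subgroup.normalizer (((P : Subgroup G)) : Set G)

include D in
theorem k_le_centralizer : K ≤ CP := fun k hk => ((D.mem_iff k).1 hk).2

include D in
theorem g_mem_centralizer : g ∈ CP := by
  refine Subgroup.mem_centralizer_iff.2 fun x hx => ?_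
  have hx' : x ∈ Subgroup.zpowers g := D.gen.symm ▸ hx
  obtain ⟨z, rfl⟩ := hx'
  exact (((Commute.refl g).zpow_left z).eq :)

theorem val_ne_zero_of_unit (v : (ZMod p)ˣ) : ¬ p ∣ (v : ZMod p).val := fun hd => v.ne_zero (by
  rw [← ZMod.natCast_rightInverse (v : ZMod p), (ZMod.natCast_eq_zero_iff _ _).2 hd])

theorem val_ne_zero_of_ne {i : ZMod p} (hi : i ≠ 0) : ¬ p ∣ i.val := fun hd => hi (by
  rw [← ZMod.natCast_rightInverse i, (ZMod.natCast_eq_zero_iff _ _).2 hd])

include D in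
theorem pow_val_injective {a b : ZMod p} (e : g ^ a.val = g ^ b.val) : a = b := by
  have := natCast_eq_of_pow D.order e
  rwa [ZMod.natCast_rightInverse a, ZMod.natCast_rightInverse b] at this

include D in
theorem exists_weight (a : NP) : ∃ v : (ZMod p)ˣ, (a : G) * g * (a : G)⁻¹ = g ^ (v : ZMod p).val := by
  have hmem : (a : G) * g * (a : G)⁻¹ ∈ Subgroup.zpowers g := by
    rw [D.gen]; exact (Subgroup.mem_normalizer_iff.1 a.2 g).1 D.g_mem
  rw [← mem_powers_iff_mem_zpowers] at hmem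
  obtain ⟨i, hi⟩ := hmem
  simp only at hi
  have hi0 : (i : ZMod p) ≠ 0 := fun h0 => by
    obtain ⟨d, rfl⟩ := (ZMod.natCast_eq_zero_iff _ _).1 h0
    rw [pow_mul, show g ^ p = 1 by simpa [D.order] using pow_orderOf_eq_one g, one_pow] at hi
    exact D.g_ne_one (conj_eq_one_iff.1 hi.symm)
  exact ⟨Units.mk0 _ hi0, by
    rw [← hi]; exact pow_eq_of_natCast D.order (ZMod.natCast_rightInverse (i : ZMod p)).symm⟩

/-- The action of the normaliser on the Sylow subgroup. -/
noncomputable def wt : NP →* (ZMod p)ˣ where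
  toFun a := (exists_weight D a).choose
  map_one' := Units.ext (pow_val_injective D (by
    rw [← (exists_weight D 1).choose_spec]
    simp [ZMod.val_one]))
  map_mul' a b := Units.ext (pow_val_injective D (by
    rw [← (exists_weight D (a * b)).choose_spec, Units.val_mul, D.pow_val_mul,
      ← (exists_weight D a).choose_spec, conj_pow, ← (exists_weight D b).choose_spec]
    simp only [Subgroup.coe_mul]; group))

theorem wt_spec (a : NP) : (a : G) * g * (a : G)⁻¹ = g ^ (wt D a : ZMod p).val :=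
  (exists_weight D a).choose_spec

theorem conj_pow_g (a : NP) (i : ZMod p) :
    (a : G) * g ^ i.val * (a : G)⁻¹ = g ^ ((wt D a : ZMod p) * i).val := by
  rw [← conj_pow, wt_spec D, D.pow_val_mul]

theorem wt_eq_one_iff (a : NP) : wt D a = 1 ↔ (a : G) ∈ CP := by
  constructor
  · intro h1
    have := wt_spec D a
    rw [h1, Units.val_one, ZMod.val_one, pow_one, mul_inv_eq_iff_eq_mul] at this
    refine Subgroup.mem_centralizer_iff.2 fun x hx => ?_
    have hx' : x ∈ Subgroup.zpowers g := D.gen.symm ▸ hx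
    obtain ⟨z, rfl⟩ := hx'
    exact (((show Commute g (a : G) from this.symm).zpow_left z).eq :)
  · intro h1
    refine Units.ext (pow_val_injective D ?_)
    rw [← wt_spec D, Units.val_one, ZMod.val_one, pow_one, mul_inv_eq_iff_eq_mul,
      Subgroup.mem_centralizer_iff.1 h1 g D.g_mem]

/-- Conjugation on the `p'`-part of the centraliser. -/
noncomputable def cjE (a : NP) : K ≃* K where
  toFun k := ⟨(a : G) * k * (a : G)⁻¹, D.normal _ a.2 k k.2⟩
  invFun k := ⟨(a : G)⁻¹ * k * (a : G), by simpa using D.normal _ (inv_mem a.2) k k.2⟩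
  left_inv k := Subtype.ext (by group)
  right_inv k := Subtype.ext (by group)
  map_mul' k l := Subtype.ext (by simp only [Subgroup.coe_mul]; group)

theorem coe_cjE (a : NP) (k : K) : ((cjE D a k : K) : G) = (a : G) * k * (a : G)⁻¹ := rfl

/-- The conjugate of a character of `K`. -/
noncomputable def cjI (a : NP) (φ : Cfsg.IrrCharacter K) : Cfsg.IrrCharacter K :=
  ⟨(φ : K → ℂ) ∘ cjE D a, (isIrrCharacter_comp_mulEquiv (cjE D a)).2 φ.2⟩

theorem coe_cjI (a : NP) (φ : Cfsg.IrrCharacter K) :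
    ((cjI D a φ : Cfsg.IrrCharacter K) : K → ℂ) = (φ : K → ℂ) ∘ cjE D a := rfl

theorem cjI_one (φ : Cfsg.IrrCharacter K) : cjI D 1 φ = φ :=
  Subtype.ext (funext fun k => congrArg (φ : K → ℂ) (Subtype.ext (by simp [coe_cjE])))

theorem cjI_mul (a b : NP) (φ : Cfsg.IrrCharacter K) :
    cjI D (a * b) φ = cjI D b (cjI D a φ) :=
  Subtype.ext (funext fun k => congrArg (φ : K → ℂ) (Subtype.ext (by
    simp only [coe_cjE, Subgroup.coe_mul]; group)))

theorem cjI_inv_iff (a : NP) (φ φ' : Cfsg.IrrCharacter K) :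
    cjI D a φ = φ' ↔ cjI D a⁻¹ φ' = φ := by
  constructor
  · rintro rfl; rw [← cjI_mul, mul_inv_cancel, cjI_one]
  · rintro rfl; rw [← cjI_mul, inv_mul_cancel, cjI_one]

theorem zexp_cong_one (hM : Cfsg.IsPModular p M) {ζ : ℂ} (hζ : IsPrimitiveRoot ζ p) (z : ZMod p) :
    Cong M (zexp ζ z) 1 :=
  cong_one_of_pow_prime_pow hM (k := 1) (by
    rw [pow_one, zexp, ← pow_mul, mul_comm, pow_mul, hζ.pow_eq_one, one_pow])

include D in
theorem decomp_unique {i j : ZMod p} {k l : G} (hk : k ∈ K) (hl : l ∈ K)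
    (e : g ^ i.val * k = g ^ j.val * l) : i = j ∧ k = l := by
  have h1 := ppart_unique (Fact.out : p.Prime) (D.isPPart i.val hk) (e ▸ D.isPPart j.val hl)
  exact ⟨pow_val_injective D h1, mul_left_cancel (h1 ▸ e : g ^ j.val * k = g ^ j.val * l)⟩

/-- `C(P) = ⟨g⟩ × K`. -/
noncomputable def cEquiv : ZMod p × K → CP := fun x =>
  ⟨g ^ x.1.val * x.2, mul_mem (pow_mem (g_mem_centralizer D) _) (k_le_centralizer D x.2.2)⟩

theorem cEquiv_bijective : Function.Bijective (cEquiv D) := by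
  refine ⟨fun x y e => ?_, fun c => ?_⟩
  · obtain ⟨h1, h2⟩ := decomp_unique D x.2.2 y.2.2 (congrArg Subtype.val e)
    exact Prod.ext h1 (Subtype.ext h2)
  · obtain ⟨i, k, hk, e⟩ := D.decomp c c.2
    exact ⟨((i : ZMod p), ⟨k, hk⟩), Subtype.ext (by
      show g ^ (i : ZMod p).val * k = c
      rw [e, pow_eq_of_natCast D.order (ZMod.natCast_rightInverse (i : ZMod p))])⟩

include D in
theorem card_centralizer : Nat.card CP = p * Nat.card K := by
  rw [← Nat.card_congr (Equiv.ofBijective _ (cEquiv_bijective D)), Nat.card_prod, Nat.card_zmod]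

/-- The projection of `C(P)` on `K`. -/
noncomputable def proj : CP →* K where
  toFun c := ((Equiv.ofBijective _ (cEquiv_bijective D)).symm c).2
  map_one' := by
    have : cEquiv D (0, 1) = 1 := Subtype.ext (by simp [cEquiv])
    exact congrArg Prod.snd ((Equiv.ofBijective _ (cEquiv_bijective D)).symm_apply_eq.2 this.symm)
  map_mul' c d := by
    set E := Equiv.ofBijective _ (cEquiv_bijective D)
    obtain ⟨⟨i, k⟩, rfl⟩ := E.surjective c
    obtain ⟨⟨j, l⟩, rfl⟩ := E.surjective d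
    rw [E.symm_apply_apply, E.symm_apply_apply]
    have : cEquiv D (i + j, k * l) = cEquiv D (i, k) * cEquiv D (j, l) := Subtype.ext (by
      show g ^ (i + j).val * ((k : G) * l) = g ^ i.val * k * (g ^ j.val * l)
      rw [D.pow_val_add, mul_assoc, mul_assoc]
      congr 1
      rw [← mul_assoc, ((D.commute_of_mem k.2).pow_left j.val).eq, mul_assoc])
    exact congrArg Prod.snd (E.symm_apply_eq.2 this.symm)

theorem proj_mk (i : ZMod p) (k : K) : proj D (cEquiv D (i, k)) = k :=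
  congrArg Prod.snd ((Equiv.ofBijective _ (cEquiv_bijective D)).symm_apply_apply (i, k))

theorem proj_coe (k : K) : proj D ⟨k, k_le_centralizer D k.2⟩ = k := by
  conv_rhs => rw [← proj_mk D 0 k]
  exact congrArg (proj D) (Subtype.ext (by simp [cEquiv]))

theorem proj_surjective : Function.Surjective (proj D) := fun k => ⟨_, proj_coe D k⟩

/-- The character of `C(P)` trivial on `P`. -/
noncomputable def infl (φ : Cfsg.IrrCharacter K) : Cfsg.IrrCharacter CP :=
  ⟨(φ : K → ℂ) ∘ proj D, isIrrCharacter_comp_surjective _ (proj_surjective D) φ.2⟩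

theorem infl_apply (φ : Cfsg.IrrCharacter K) (i : ZMod p) (k : K) :
    (infl D φ : CP → ℂ) (cEquiv D (i, k)) = (φ : K → ℂ) k := congrArg (φ : K → ℂ) (proj_mk D i k)

include D in
theorem gC_mem_center : (⟨g, g_mem_centralizer D⟩ : CP) ∈ Subgroup.center CP :=
  Subgroup.mem_center_iff.2 fun c => Subtype.ext
    (Subgroup.mem_centralizer_iff.1 c.2 g D.g_mem).symm

theorem cEquiv_eq (i : ZMod p) (k : K) :
    cEquiv D (i, k) = (⟨g, g_mem_centralizer D⟩ : CP) ^ i.val * ⟨k, k_le_centralizer D k.2⟩ :=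
  Subtype.ext (by simp [cEquiv])

include D in
theorem exists_lambda (ψ : Cfsg.IrrCharacter CP) {ζ : ℂ} (hζ : IsPrimitiveRoot ζ p) :
    ∃ z : ZMod p, ∀ (i : ZMod p) (k : K), (ψ : CP → ℂ) (cEquiv D (i, k)) =
      zexp ζ (i * z) * (ψ : CP → ℂ) ⟨k, k_le_centralizer D k.2⟩ := by
  set g' : CP := ⟨g, g_mem_centralizer D⟩
  obtain ⟨c, -, hc⟩ := exists_central_scalar ψ (gC_mem_center D)
  have hpow : ∀ (n : ℕ) (x : CP), (ψ : CP → ℂ) (x * g' ^ n) = c ^ n * (ψ : CP → ℂ) x := by
    intro n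
    induction n with
    | zero => simp
    | succ n ih => intro x; rw [pow_succ, ← mul_assoc, hc, ih]; ring
  have hgp : g' ^ p = 1 := Subtype.ext (by
    rw [Subgroup.coe_pow, Subgroup.coe_one]; simpa [D.order] using pow_orderOf_eq_one g)
  have hcp : c ^ p = 1 := by
    have h1 := hpow p 1
    rw [hgp, one_mul] at h1
    exact (mul_left_eq_self₀.1 h1.symm).resolve_right (irr_one_ne_zero ψ.2)
  obtain ⟨n, hn, rfl⟩ := hζ.eq_pow_of_pow_eq_one hcp
  refine ⟨n, fun i k => ?_⟩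
  rw [cEquiv_eq, ← (Subgroup.mem_center_iff.1 (Subgroup.pow_mem _ (gC_mem_center D) i.val)
    ⟨k, k_le_centralizer D k.2⟩), hpow]
  congr 1
  rw [zexp, ← pow_mul, ZMod.val_mul, ZMod.val_natCast_of_lt hn, mul_comm n,
    ← pow_eq_pow_mod _ hζ.pow_eq_one]

include D in
theorem isIrr_res (ψ : Cfsg.IrrCharacter CP) :
    Cfsg.IsIrrCharacter K (fun k : K => (ψ : CP → ℂ) ⟨k, k_le_centralizer D k.2⟩) := by
  classical
  haveI := Fintype.ofFinite CP
  haveI := Fintype.ofFinite K
  obtain ⟨ζ, hζ⟩ : ∃ ζ : ℂ, IsPrimitiveRoot ζ p :=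
    ⟨_, Complex.isPrimitiveRoot_exp p (NeZero.ne p)⟩
  obtain ⟨z, hz⟩ := exists_lambda D ψ hζ
  refine isIrr_of_isCharacter_of_norm_one
    (isCharacter_comp (Subgroup.inclusion (k_le_centralizer D)) (irr_isCharacter ψ)) ?_
  have h1 := classInner_isIrr_self ψ.2
  rw [classInner_def, card_centralizer D, ← (cEquiv_bijective D).sum_comp
    (fun c : CP => (ψ : CP → ℂ) c * conj ((ψ : CP → ℂ) c)), Fintype.sum_prod_type] at h1
  have hone : ∀ i : ZMod p, zexp ζ (i * z) * conj (zexp ζ (i * z)) = 1 := fun i => by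
    rw [conj_zexp hζ, ← zexp_add hζ, add_neg_cancel, zexp_zero]
  rw [Finset.sum_congr rfl fun (i : ZMod p) _ => Finset.sum_congr rfl fun (k : K) _ =>
      show (ψ : CP → ℂ) (cEquiv D (i, k)) * conj ((ψ : CP → ℂ) (cEquiv D (i, k))) =
      (ψ : CP → ℂ) ⟨k, k_le_centralizer D k.2⟩ *
        conj ((ψ : CP → ℂ) ⟨k, k_le_centralizer D k.2⟩) by
    rw [hz i k, map_mul]
    linear_combination ((ψ : CP → ℂ) ⟨k, k_le_centralizer D k.2⟩ *
      conj ((ψ : CP → ℂ) ⟨k, k_le_centralizer D k.2⟩)) * hone i, Finset.sum_const,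
    Finset.card_univ, ZMod.card, nsmul_eq_mul, Nat.cast_mul, mul_inv, mul_comm (p : ℂ)⁻¹,
    mul_assoc, ← mul_assoc (p : ℂ)⁻¹, inv_mul_cancel₀ (Nat.cast_ne_zero.2 (NeZero.ne p)),
    one_mul] at h1
  rwa [classInner_def]

/-- The restriction to `K`. -/
noncomputable def resK (ψ : Cfsg.IrrCharacter CP) : Cfsg.IrrCharacter K := ⟨_, isIrr_res D ψ⟩

theorem resK_apply (ψ : Cfsg.IrrCharacter CP) (k : K) :
    (resK D ψ : K → ℂ) k = (ψ : CP → ℂ) ⟨k, k_le_centralizer D k.2⟩ := rfl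

theorem resK_infl (φ : Cfsg.IrrCharacter K) : resK D (infl D φ) = φ :=
  Subtype.ext (funext fun k => congrArg (φ : K → ℂ) (proj_coe D k))

/-- A character trivial on `P` is inflated from `K`. -/
theorem eq_infl_of_trivial (θ : Cfsg.IrrCharacter CP)
    (hθ : ∀ x : CP, (x : G) ∈ (P : Subgroup G) → (θ : CP → ℂ) x = (θ : CP → ℂ) 1) :
    θ = infl D (resK D θ) := by
  refine Subtype.ext (funext fun c => ?_)
  obtain ⟨⟨i, k⟩, rfl⟩ := (cEquiv_bijective D).2 c
  show _ = (infl D (resK D θ) : CP → ℂ) (cEquiv D (i, k))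
  rw [infl_apply, resK_apply, cEquiv_eq]
  refine char_mul_of_eq_one (irr_isCharacter θ) (hθ _ ?_) _
  rw [Subgroup.coe_pow]
  exact pow_mem D.g_mem _

theorem sameBlock_iff (hM : Cfsg.IsPModular p M) (ψ ψ' : Cfsg.IrrCharacter CP) :
    Cfsg.SameBlock M (ψ : CP → ℂ) (ψ' : CP → ℂ) ↔ resK D ψ = resK D ψ' := by
  classical
  constructor
  · intro hb
    haveI : (K.subgroupOf CP).Normal := ⟨fun x hx c => D.normal _
      (Subgroup.centralizer_le_normalizer _ c.2) x hx⟩
    haveI := Fintype.ofFinite (K.subgroupOf CP)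
    haveI := Fintype.ofFinite K
    set e := Subgroup.subgroupOfEquivOfLe (k_le_centralizer D)
    have hnd : ¬ p ∣ Nat.card (K.subgroupOf CP) := by
      rw [Nat.card_congr e.toEquiv]; exact D.not_dvd
    set φ' : Cfsg.IrrCharacter (K.subgroupOf CP) :=
      ⟨_, (isIrrCharacter_comp_mulEquiv e).2 (resK D ψ).2⟩
    have hres : ∀ χ : Cfsg.IrrCharacter CP,
        (fun n : K.subgroupOf CP => (χ : CP → ℂ) n) = (resK D χ : K → ℂ) ∘ e :=
      fun χ => funext fun n => congrArg (χ : CP → ℂ) (Subtype.ext rfl)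
    have h1 : Cfsg.classInner (fun n : K.subgroupOf CP => (ψ : CP → ℂ) n)
        (φ' : K.subgroupOf CP → ℂ) ≠ 0 := by
      rw [hres]
      exact (classInner_isIrr_self φ'.2).trans_ne one_ne_zero
    have h2 := constituent_transfer hM hnd hb h1
    by_contra hne
    refine h2 ?_
    rw [hres]
    show Cfsg.classInner ((resK D ψ' : K → ℂ) ∘ e.toMonoidHom)
      ((resK D ψ : K → ℂ) ∘ e.toMonoidHom) = 0
    rw [classInner_comp_surjective e.toMonoidHom e.surjective, classInner_irr,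
      if_neg (Ne.symm hne)]
  · intro hres c
    obtain ⟨ζ, hζ⟩ : ∃ ζ : ℂ, IsPrimitiveRoot ζ p :=
      ⟨_, Complex.isPrimitiveRoot_exp p (NeZero.ne p)⟩
    obtain ⟨z, hz⟩ := exists_lambda D ψ hζ
    obtain ⟨z', hz'⟩ := exists_lambda D ψ' hζ
    obtain ⟨⟨i, k⟩, rfl⟩ := (cEquiv_bijective D).2 c
    set c' := cEquiv D (i, k)
    have hk : (ψ' : CP → ℂ) ⟨k, k_le_centralizer D k.2⟩ =
        (ψ : CP → ℂ) ⟨k, k_le_centralizer D k.2⟩ := by rw [← resK_apply D, ← resK_apply D, hres]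
    have h1 : (ψ' : CP → ℂ) 1 = (ψ : CP → ℂ) 1 :=
      congrFun (congrArg Subtype.val hres.symm) (1 : K)
    set w : ℂ := ((Subgroup.centralizer ({c'} : Set CP)).index : ℂ) *
      (ψ : CP → ℂ) ⟨k, k_le_centralizer D k.2⟩ / (ψ : CP → ℂ) 1
    have hw : Cfsg.centralChar (ψ : CP → ℂ) c' = zexp ζ (i * z) * w := by
      rw [Cfsg.centralChar, hz i k]; ring
    have hw' : Cfsg.centralChar (ψ' : CP → ℂ) c' = zexp ζ (i * z') * w := by
      rw [Cfsg.centralChar, hz' i k, hk, h1]; ring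
    show Cong M _ _
    rw [hw, hw']
    have hint : IsIntegral ℤ w := by
      have h2 := centralChar_isIntegral ψ c'
      rw [hw] at h2
      have h3 : IsIntegral ℤ (zexp ζ (-(i * z))) :=
        (hζ.isIntegral (NeZero.pos p)).pow _
      have := h3.mul h2
      rwa [← mul_assoc, ← zexp_add hζ, neg_add_cancel, zexp_zero, one_mul] at this
    rw [mul_comm _ w, mul_comm _ w]
    exact cong_mul_left hM (ring_of_isIntegral hM hint) (cong_trans hM (zexp_cong_one hM hζ _)
      (cong_symm hM (zexp_cong_one hM hζ _)))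

/-- The block of `C(P)` of `φ`. -/
noncomputable def bl (M : Ideal Cfsg.AlgInt) (φ : Cfsg.IrrCharacter K) :
    Set (Cfsg.IrrCharacter CP) :=
  Cfsg.blockOf M (infl D φ : CP → ℂ)

theorem isPBlock_bl (φ : Cfsg.IrrCharacter K) : Cfsg.IsPBlock M (bl D M φ) :=
  isPBlock_blockOf M _

theorem mem_bl (hM : Cfsg.IsPModular p M) {φ : Cfsg.IrrCharacter K} {ψ : Cfsg.IrrCharacter CP} :
    ψ ∈ bl D M φ ↔ resK D ψ = φ := by
  rw [bl, mem_blockOf, sameBlock_iff D hM, resK_infl, eq_comm]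

theorem bl_resK (hM : Cfsg.IsPModular p M) {b : Set (Cfsg.IrrCharacter CP)}
    (hb : Cfsg.IsPBlock M b) {θ : Cfsg.IrrCharacter CP} (hθ : θ ∈ b) : b = bl D M (resK D θ) :=
  block_eq_of_mem hM hb (isPBlock_bl D _) hθ ((mem_bl D hM).2 rfl)

include D in
theorem sup_centralizer_eq :
    (P : Subgroup G) ⊔ CP = CP := by
  refine sup_eq_right.2 ?_
  rw [← D.gen, Subgroup.zpowers_le, D.gen]
  exact g_mem_centralizer D

theorem conj_of_induced_aux (hM : Cfsg.IsPModular p M) {Q H : Subgroup G}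
    (hH : Q ⊔ Subgroup.centralizer (Q : Set G) = H) {B : Set (Cfsg.IrrCharacter G)}
    (hQ : Cfsg.IsDefectGroup p M B Q) {b b' : Set (Cfsg.IrrCharacter H)}
    (hind : Cfsg.IsInducedBlock M H b B) (hind' : Cfsg.IsInducedBlock M H b' B) :
    ∃ n ∈ Subgroup.normalizer (Q : Set G), ∀ θ ∈ b, ∃ θ' ∈ b',
      ∀ x : H, ∀ hx : n * (x : G) * n⁻¹ ∈ H,
        (θ' : H → ℂ) x = (θ : H → ℂ) ⟨n * (x : G) * n⁻¹, hx⟩ := by
  subst hH
  exact correspondents_conj hM hQ hind hind'

/-- Characters of `K` whose blocks induce the same block of defect group `P` are conjugate. -/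
theorem conj_of_induced (hM : Cfsg.IsPModular p M) {B : Set (Cfsg.IrrCharacter G)}
    (hBP : Cfsg.IsDefectGroup p M B (P : Subgroup G)) {φ φ' : Cfsg.IrrCharacter K}
    (hind : Cfsg.IsInducedBlock M CP (bl D M φ) B)
    (hind' : Cfsg.IsInducedBlock M CP (bl D M φ') B) : ∃ a : NP, φ' = cjI D a φ := by
  obtain ⟨n, hn, hmap⟩ := conj_of_induced_aux hM (sup_centralizer_eq D) hBP hind hind'
  obtain ⟨θ', hθ', hval⟩ := hmap (infl D φ) ((mem_bl D hM).2 (resK_infl D φ))
  refine ⟨⟨n, hn⟩, Subtype.ext (funext fun k => ?_)⟩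
  rw [← (mem_bl D hM).1 hθ', resK_apply,
    hval ⟨k, k_le_centralizer D k.2⟩ (k_le_centralizer D (D.normal n hn k k.2))]
  exact congrArg (φ : K → ℂ) (proj_coe D ⟨n * (k : G) * n⁻¹, D.normal n hn k k.2⟩)

/-- Every block of `C(P)` induces a block with defect group `P`. -/
theorem exists_induced (hM : Cfsg.IsPModular p M) (φ : Cfsg.IrrCharacter K) :
    ∃ B : Set (Cfsg.IrrCharacter G), Cfsg.IsInducedBlock M CP (bl D M φ) B ∧
      Cfsg.IsDefectGroup p M B (P : Subgroup G) := by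
  have hPC : (P : Subgroup G) ≤ CP := by
    have := sup_centralizer_eq D; rwa [sup_eq_right] at this
  have hCN : CP ≤ NP := Subgroup.centralizer_le_normalizer _
  obtain ⟨B, hB⟩ := inducedBlockDefined_of_brauer hM P.isPGroup' hPC le_rfl hCN (isPBlock_bl D φ)
  obtain ⟨E, hE⟩ := exists_defectGroup hM hB.2.1
  obtain ⟨x, hx⟩ := (exists_induced_iff hM P.isPGroup' hPC le_rfl hCN hB.2.1 hE).1 ⟨_, hB⟩
  refine ⟨B, hB, ?_⟩
  have heq : E.map (MulAut.conj x).toMonoidHom = (P : Subgroup G) :=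
    P.is_maximal' ((isPGroup_defect hE).map _) hx
  rw [← heq]
  exact defectGroup_conj hM hE x

end Cfsg.Agent.Blocks.PrimeBlock
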