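import Mathlib
import Cfsg.Agent.Lib.Blocks.PrimeBlock.Local

/-!
# Decomposition numbers on a Sylow subgroup of order `p`

`dd φ χ i` is the multiplicity of `φ` in `k ↦ χ (g ^ i * k)`.
-/

set_option linter.style.haveILetI false
set_option linter.unusedSectionVars false

namespace Cfsg.Agent.Blocks.PrimeBlock

open Cfsg.Agent.Characters Cfsg.Agent.Blocks
open scoped ComplexConjugate

universe u

variable {G : Type u} [Group G] [Finite G] {p : ℕ} [Fact p.Prime] {M : Ideal Cfsg.AlgInt}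
  {P : Sylow p G} {g : G} {K : Subgroup G} {h : G} {u : (ZMod p)ˣ} [Fintype K]
  (D : PrimeData p P g K h u)

local notation "CP" => Subgroup.centralizer (((P : Subgroup G)) : Set G)

local notation "NP" => Subgroup.normalizer (((P : Subgroup G)) : Set G)

/-- The decomposition numbers. -/
noncomputable def dd (_D : PrimeData p P g K h u) (φ : Cfsg.IrrCharacter K)
    (χ : Cfsg.IrrCharacter G) (i : ZMod p) : ℂ :=
  Cfsg.classInner (fun k : K => (χ : G → ℂ) (g ^ i.val * k)) (φ : K → ℂ)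

include D in
theorem isClassFunction_section (χ : Cfsg.IrrCharacter G) (n : ℕ) :
    Cfsg.IsClassFunction K fun k : K => (χ : G → ℂ) (g ^ n * k) := by
  intro k l
  simp only [Subgroup.coe_mul, Subgroup.coe_inv]
  rw [show g ^ n * ((l : G) * k * (l : G)⁻¹) = (l : G) * (g ^ n * k) * (l : G)⁻¹ by
    rw [← mul_assoc, ← mul_assoc, ((D.commute_of_mem l.2).pow_left n).eq, mul_assoc (l : G)]]
  exact irr_isClassFunction χ _ _

theorem value_eq_sum [Fintype (Cfsg.IrrCharacter K)] (χ : Cfsg.IrrCharacter G) (i : ZMod p)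
    (k : K) : (χ : G → ℂ) (g ^ i.val * k) =
      ∑ φ : Cfsg.IrrCharacter K, dd D φ χ i * (φ : K → ℂ) k := by
  simpa only [dd, Finset.sum_apply, Pi.smul_apply, smul_eq_mul] using
    congrFun (classFun_eq_sum (isClassFunction_section D χ i.val)) k

theorem dd_cjI (φ : Cfsg.IrrCharacter K) (χ : Cfsg.IrrCharacter G) (a : NP) (i : ZMod p) :
    dd D (cjI D a φ) χ i = dd D φ χ ((wt D a : ZMod p) * i) := by
  rw [dd, dd, ← classInner_comp_surjective (cjE D a).toMonoidHom (cjE D a).surjective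
    (fun k : K => (χ : G → ℂ) (g ^ ((wt D a : ZMod p) * i).val * k)) (φ : K → ℂ)]
  congr 1
  funext k
  show _ = (χ : G → ℂ) (g ^ ((wt D a : ZMod p) * i).val * ((a : G) * k * (a : G)⁻¹))
  rw [← conj_pow_g D a i, ← irr_isClassFunction χ (g ^ i.val * k) (a : G)]
  congr 1
  group

/-! ## The second main theorem -/

theorem second_main_eq (hM : Cfsg.IsPModular p M) {x : G} (hx : ∃ k : ℕ, orderOf x = p ^ k)
    {H : Subgroup G} (hH : Subgroup.centralizer ({x} : Set G) = H)
    {B : Set (Cfsg.IrrCharacter G)} (hB : Cfsg.IsPBlock M B) {χ : Cfsg.IrrCharacter G} (hχ : χ ∈ B)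
    {b : Set (Cfsg.IrrCharacter H)} (hb : Cfsg.IsPBlock M b)
    (hnot : ¬ Cfsg.IsInducedBlock M H b B) {y : H} (hy : ¬ p ∣ orderOf y) :
    Cfsg.blockPart b (fun c : H => (χ : G → ℂ) (x * (c : G))) y = 0 := by
  subst hH
  exact blockPart_eq_zero_of_not_induced hM hx hB hχ hb hnot hy

/-- The decomposition number vanishes unless the block of `φ` induces that of `χ`. -/
theorem dd_eq_zero_of_not_induced (hM : Cfsg.IsPModular p M) {B : Set (Cfsg.IrrCharacter G)}
    (hB : Cfsg.IsPBlock M B) {χ : Cfsg.IrrCharacter G} (hχ : χ ∈ B) {φ : Cfsg.IrrCharacter K}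
    (hnot : ¬ Cfsg.IsInducedBlock M CP (bl D M φ) B) {i : ZMod p} (hi : i ≠ 0) :
    dd D φ χ i = 0 := by
  classical
  haveI := Fintype.ofFinite (Cfsg.IrrCharacter CP)
  letI := Fintype.ofFinite CP
  have hd := val_ne_zero_of_ne hi
  set f : CP → ℂ := fun c : CP => (χ : G → ℂ) (g ^ i.val * (c : G)) with hf
  have hcl : Cfsg.IsClassFunction CP f := by
    intro c l
    simp only [f, Subgroup.coe_mul, Subgroup.coe_inv]
    have hc : Commute (g ^ i.val) (l : G) :=
      (show Commute g (l : G) from Subgroup.mem_centralizer_iff.1 l.2 g D.g_mem).pow_left _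
    rw [show g ^ i.val * ((l : G) * c * (l : G)⁻¹) = (l : G) * (g ^ i.val * c) * (l : G)⁻¹ by
      rw [← mul_assoc, ← mul_assoc, hc.eq, mul_assoc (l : G)]]
    exact irr_isClassFunction χ _ _
  have h0 := second_main_eq hM (x := g ^ i.val) (H := CP)
    ⟨1, by rw [D.orderOf_pow hd, pow_one]⟩ (D.centralizer_pow hd) hB hχ (isPBlock_bl D φ) hnot
    (y := 1) (by simp [(Fact.out : p.Prime).ne_one])
  rw [Cfsg.blockPart, finsum_mem_eq_finite_toFinset_sum _ (Set.toFinite _)] at h0
  simp only [← hf] at h0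
  have hset : (Set.toFinite (bl D M φ)).toFinset =
      Finset.univ.filter (fun ψ : Cfsg.IrrCharacter CP => resK D ψ = φ) := by
    ext ψ; simp [mem_bl D hM]
  rw [hset, Finset.sum_congr rfl fun (ψ : Cfsg.IrrCharacter CP) hψ => show Cfsg.classInner f (ψ : CP → ℂ) *
      (ψ : CP → ℂ) 1 = Cfsg.classInner f (ψ : CP → ℂ) * (φ : K → ℂ) 1 by
    rw [← (Finset.mem_filter.1 hψ).2]
    exact congrArg (fun x => Cfsg.classInner f (ψ : CP → ℂ) * (ψ : CP → ℂ) x) (Subtype.ext rfl),
    ← Finset.sum_mul] at h0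
  have hres : (fun k : K => (χ : G → ℂ) (g ^ i.val * k)) =
      ∑ ψ : Cfsg.IrrCharacter CP,
        Cfsg.classInner f (ψ : CP → ℂ) • (resK D ψ : K → ℂ) := by
    funext k
    have := congrFun (classFun_eq_sum hcl) ⟨k, k_le_centralizer D k.2⟩
    simp only [Finset.sum_apply, Pi.smul_apply, smul_eq_mul] at this ⊢
    exact this
  rw [dd, hres, classInner_sum_left, ← (mul_eq_zero.1 h0).resolve_right (irr_one_ne_zero φ.2),
    Finset.sum_filter]
  refine Finset.sum_congr rfl fun ψ _ => ?_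
  rw [classInner_smul_left, classInner_irr, mul_ite, mul_one, mul_zero]

theorem induced_of_dd_ne_zero (hM : Cfsg.IsPModular p M) {B : Set (Cfsg.IrrCharacter G)}
    (hB : Cfsg.IsPBlock M B) {χ : Cfsg.IrrCharacter G} (hχ : χ ∈ B) {φ : Cfsg.IrrCharacter K}
    {i : ZMod p} (hi : i ≠ 0) (hne : dd D φ χ i ≠ 0) :
    Cfsg.IsInducedBlock M CP (bl D M φ) B := by
  by_contra hnot
  exact hne (dd_eq_zero_of_not_induced D hM hB hχ hnot hi)

theorem dd_eq_zero_of_notMem (hM : Cfsg.IsPModular p M) {B : Set (Cfsg.IrrCharacter G)}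
    {φ : Cfsg.IrrCharacter K} (hind : Cfsg.IsInducedBlock M CP (bl D M φ) B)
    {χ : Cfsg.IrrCharacter G} (hχ : χ ∉ B) {i : ZMod p} (hi : i ≠ 0) : dd D φ χ i = 0 := by
  refine dd_eq_zero_of_not_induced D hM (isPBlock_blockOf M χ) (mem_blockOf_self hM χ)
    (fun h' => hχ ?_) hi
  rw [isInduced_unique hM hind h']
  exact mem_blockOf_self hM χ

/-! ## Integral coordinates -/

variable {ζ : ℂ}

include D in
theorem exists_mult (hζ : IsPrimitiveRoot ζ p) (φ : Cfsg.IrrCharacter K)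
    (χ : Cfsg.IrrCharacter G) : ∃ mult : ZMod p → ℕ,
      ∀ i : ZMod p, dd D φ χ i = ∑ j : ZMod p, (mult j : ℂ) * zexp ζ (i * j) := by
  classical
  haveI := Fintype.ofFinite (Cfsg.IrrCharacter CP)
  haveI := Fintype.ofFinite CP
  have hc : Cfsg.IsCharacter CP fun c : CP => (χ : G → ℂ) c :=
    isCharacter_restrict _ (irr_isCharacter χ)
  choose z hz using fun ψ : Cfsg.IrrCharacter CP => exists_lambda D ψ hζ
  choose nn hn using fun ψ : Cfsg.IrrCharacter CP =>
    classInner_char_nat hc (isCharacter_of_isIrr ψ.2)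
  refine ⟨fun j => ∑ ψ ∈ Finset.univ.filter
    (fun ψ : Cfsg.IrrCharacter CP => resK D ψ = φ ∧ z ψ = j), nn ψ, fun i => ?_⟩
  have hres : (fun k : K => (χ : G → ℂ) (g ^ i.val * k)) =
      ∑ ψ : Cfsg.IrrCharacter CP, ((nn ψ : ℂ) * zexp ζ (i * z ψ)) • (resK D ψ : K → ℂ) := by
    funext k
    have := congrFun (classFun_eq_sum (char_isClassFunction hc)) (cEquiv D (i, k))
    simp only [Finset.sum_apply, Pi.smul_apply, smul_eq_mul, hn, hz] at this ⊢
    rw [show (χ : G → ℂ) (g ^ i.val * k) = _ from this]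
    exact Finset.sum_congr rfl fun ψ _ => by rw [resK_apply]; ring
  rw [dd, hres, classInner_sum_left]
  simp only [classInner_smul_left, classInner_irr, mul_ite, mul_one, mul_zero, Nat.cast_sum,
    Finset.sum_mul, Finset.sum_filter]
  rw [Finset.sum_comm]
  refine Finset.sum_congr rfl fun ψ _ => ?_
  by_cases hψ : resK D ψ = φ
  · simp [hψ]
  · simp [hψ]

/-- A coordinate vector for `dd φ χ`. -/
theorem exists_coord_dd (hζ : IsPrimitiveRoot ζ p) (φ : Cfsg.IrrCharacter K)
    (χ : Cfsg.IrrCharacter G) : ∃ a : ZMod p → ℤ, a 0 = 0 ∧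
    (∀ i : ZMod p, i ≠ 0 → dd D φ χ i = ∑ j : ZMod p, (a j : ℂ) * zexp ζ (i * j)) ∧
    (∀ v : NP, cjI D v φ = φ → ∀ j, a ((wt D v : ZMod p) * j) = a j) ∧
    ∀ j, (p : ℂ) * a j = ∑ i : ZMod p, dd D φ χ i * (zexp ζ (-(i * j)) - 1) := by
  classical
  have hp : p.Prime := Fact.out
  obtain ⟨mult, hval⟩ := exists_mult D hζ φ χ
  set a : ZMod p → ℤ := fun j => (mult j : ℤ) - mult 0
  have hav : ∀ i : ZMod p, dd D φ χ i =
      ∑ j : ZMod p, (a j : ℂ) * zexp ζ (i * j) + (mult 0 : ℂ) * if i = 0 then (p : ℂ) else 0 := by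
    intro i
    rw [hval, ← sum_zexp_mul hζ i, Finset.mul_sum, ← Finset.sum_add_distrib]
    refine Finset.sum_congr rfl fun j _ => ?_
    rw [mul_comm j i]
    simp only [a]; push_cast; ring
  have hinv : ∀ j, (p : ℂ) * a j =
      ∑ i : ZMod p, dd D φ χ i * (zexp ζ (-(i * j)) - 1) := by
    intro j
    have h1 : ∀ i : ZMod p, dd D φ χ i * (zexp ζ (-(i * j)) - 1) =
        ∑ k : ZMod p, (a k : ℂ) * (zexp ζ (i * (k - j)) - zexp ζ (i * k)) := by
      intro i
      rw [hav i, add_mul]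
      have h0 : (mult 0 : ℂ) * (if i = 0 then (p : ℂ) else 0) * (zexp ζ (-(i * j)) - 1) = 0 := by
        split_ifs with hi
        · rw [hi, zero_mul, neg_zero, zexp_zero, sub_self, mul_zero]
        · rw [mul_zero, zero_mul]
      rw [h0, add_zero, Finset.sum_mul]
      refine Finset.sum_congr rfl fun k _ => ?_
      rw [show i * (k - j) = i * k + -(i * j) by ring, zexp_add hζ]; ring
    rw [Finset.sum_congr rfl fun i _ => h1 i, Finset.sum_comm,
      Finset.sum_congr rfl fun k _ => show ∑ i : ZMod p,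
          (a k : ℂ) * (zexp ζ (i * (k - j)) - zexp ζ (i * k)) =
          (a k : ℂ) * ((if k = j then (p : ℂ) else 0) - if k = 0 then (p : ℂ) else 0) by
        rw [← Finset.mul_sum, Finset.sum_sub_distrib, sum_zexp_mul hζ, sum_zexp_mul hζ]
        simp only [sub_eq_zero]]
    simp only [mul_sub, mul_ite, mul_zero, Finset.sum_sub_distrib, Finset.sum_ite_eq',
      Finset.mem_univ, if_true]
    simp [a, mul_comm]
  refine ⟨a, sub_self _, fun i hi => by rw [hav, if_neg hi, mul_zero, add_zero],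
    fun v hv j => ?_, hinv⟩
  have hp0 : (p : ℂ) ≠ 0 := Nat.cast_ne_zero.2 hp.ne_zero
  have h1 : (p : ℂ) * a ((wt D v : ZMod p) * j) = (p : ℂ) * a j := by
    rw [hinv, hinv]
    refine Fintype.sum_equiv (Units.mulLeft (wt D v)) _ _ fun i => ?_
    rw [Units.mulLeft_apply, ← dd_cjI, hv,
      show (wt D v : ZMod p) * i * j = i * ((wt D v : ZMod p) * j) by ring]
  exact_mod_cast mul_left_cancel₀ hp0 h1

/-! ## Orthogonality -/

/-- The inertia group of `φ` inside the normaliser. -/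
noncomputable def stab (φ : Cfsg.IrrCharacter K) : Subgroup NP where
  carrier := {a | cjI D a φ = φ}
  one_mem' := cjI_one D φ
  mul_mem' {a b} ha hb := by
    show cjI D (a * b) φ = φ
    rw [cjI_mul, ha, hb]
  inv_mem' {a} ha := (cjI_inv_iff D a φ φ).1 ha

theorem mem_stab {φ : Cfsg.IrrCharacter K} {a : NP} : a ∈ stab D φ ↔ cjI D a φ = φ := Iff.rfl

theorem mem_stab_of_centralizer (φ : Cfsg.IrrCharacter K) {a : NP} (ha : (a : G) ∈ CP) :
    a ∈ stab D φ := by
  obtain ⟨i, k, hk, e⟩ := D.decomp _ ha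
  refine Subtype.ext (funext fun l => ?_)
  show (φ : K → ℂ) (cjE D a l) = _
  rw [← irr_isClassFunction φ l ⟨k, hk⟩]
  refine congrArg (φ : K → ℂ) (Subtype.ext ?_)
  have hc : Commute (g ^ i) (k * (l : G) * k⁻¹) :=
    (D.commute_of_mem (mul_mem (mul_mem hk l.2) (inv_mem hk))).pow_left i
  rw [coe_cjE, e, Subgroup.coe_mul, Subgroup.coe_mul, Subgroup.coe_inv]
  calc g ^ i * k * (l : G) * (g ^ i * k)⁻¹ = g ^ i * (k * (l : G) * k⁻¹) * (g ^ i)⁻¹ := by group
    _ = k * (l : G) * k⁻¹ := by rw [hc.eq, mul_inv_cancel_right]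

/-- The image of the inertia group in `Aut P`. -/
noncomputable def sgp (φ : Cfsg.IrrCharacter K) : Subgroup (ZMod p)ˣ :=
  (stab D φ).map (wt D)

theorem card_fiber (φ : Cfsg.IrrCharacter K) [Fintype NP] [DecidableEq (ZMod p)ˣ]
    [DecidablePred (· ∈ stab D φ)] {v : (ZMod p)ˣ} (hv : v ∈ sgp D φ) :
    (Finset.univ.filter fun a : NP => a ∈ stab D φ ∧ wt D a = v).card = p * Nat.card K := by
  obtain ⟨a₀, ha₀, rfl⟩ := hv
  haveI := Fintype.ofFinite CP
  rw [← card_centralizer D, Nat.card_eq_fintype_card, ← Finset.card_univ]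
  refine Finset.card_bij (fun a ha => (⟨((a * a₀⁻¹ : NP) : G), (wt_eq_one_iff D _).1 (by
      rw [map_mul, map_inv, (Finset.mem_filter.1 ha).2.2, mul_inv_cancel])⟩ : CP))
    (fun _ _ => Finset.mem_univ _) (fun a _ b _ e => ?_) (fun c _ => ?_)
  · have e' := congrArg (fun c : CP => (c : G)) e
    exact mul_right_cancel (Subtype.ext e' : a * a₀⁻¹ = b * a₀⁻¹)
  · set c' : NP := ⟨c, Subgroup.centralizer_le_normalizer _ c.2⟩
    refine ⟨c' * a₀, Finset.mem_filter.2 ⟨Finset.mem_univ _,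
      mul_mem (mem_stab_of_centralizer D φ c.2) ha₀, ?_⟩, Subtype.ext ?_⟩
    · rw [map_mul, (wt_eq_one_iff D c').2 c.2, one_mul]
    · show ((c' * a₀ * a₀⁻¹ : NP) : G) = c
      rw [mul_inv_cancel_right]

theorem sum_char_pair [Fintype (Cfsg.IrrCharacter G)] [Fintype G] [DecidableEq G] (x y : G) :
    ∑ χ : Cfsg.IrrCharacter G, (χ : G → ℂ) x * conj ((χ : G → ℂ) y) =
      ((Finset.univ.filter fun z : G => z * x * z⁻¹ = y).card : ℂ) := by
  classical
  rw [second_orthogonality]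
  split_ifs with hc
  · obtain ⟨z₀, hz₀⟩ := isConj_iff.1 hc
    rw [Nat.card_eq_fintype_card, Nat.cast_inj, ← Finset.card_univ]
    symm
    refine Finset.card_bij (fun z hz => (⟨z * z₀⁻¹, Subgroup.mem_centralizer_singleton_iff.2 (by
        have hz' := (Finset.mem_filter.1 hz).2
        calc z * z₀⁻¹ * y = z * z₀⁻¹ * (z₀ * x * z₀⁻¹) := by rw [hz₀]
          _ = z * x * z⁻¹ * (z * z₀⁻¹) := by group
          _ = y * (z * z₀⁻¹) := by rw [hz'])⟩ : Subgroup.centralizer ({y} : Set G)))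
      (fun _ _ => Finset.mem_univ _) (fun a _ b _ e => by simpa using e) (fun c _ => ?_)
    refine ⟨c * z₀, Finset.mem_filter.2 ⟨Finset.mem_univ _, ?_⟩, Subtype.ext (by simp)⟩
    have hcy := Subgroup.mem_centralizer_singleton_iff.1 c.2
    calc (c : G) * z₀ * x * ((c : G) * z₀)⁻¹ = c * (z₀ * x * z₀⁻¹) * (c : G)⁻¹ := by group
      _ = y := by rw [hz₀, hcy, mul_inv_cancel_right]
  · rw [eq_comm, Nat.cast_eq_zero, Finset.card_eq_zero, Finset.filter_eq_empty_iff]
    exact fun z _ hz => hc (isConj_iff.2 ⟨z, hz⟩)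

/-- Orthogonality of the decomposition numbers. -/
theorem sum_dd_mul_conj [Fintype (Cfsg.IrrCharacter G)] (φ : Cfsg.IrrCharacter K)
    {i i' : ZMod p} (hi : i ≠ 0) (_hi' : i' ≠ 0)
    [Decidable (∃ v ∈ sgp D φ, (v : ZMod p) * i = i')] :
    ∑ χ : Cfsg.IrrCharacter G, dd D φ χ i * conj (dd D φ χ i') =
      if ∃ v ∈ sgp D φ, (v : ZMod p) * i = i' then (p : ℂ) else 0 := by
  classical
  letI := Fintype.ofFinite G
  haveI := Fintype.ofFinite NP
  have hp : p.Prime := Fact.out
  set n : ℂ := (Nat.card K : ℂ)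
  have hn : n ≠ 0 := natCard_ne_zero
  have hinner : ∀ k : K, ∀ z : G,
      (∑ k' : K, if z * (g ^ i.val * k) * z⁻¹ = g ^ i'.val * k' then (φ : K → ℂ) k' else 0) =
      if hz : z ∈ NP then
        (if (wt D ⟨z, hz⟩ : ZMod p) * i = i' then (φ : K → ℂ) (cjE D ⟨z, hz⟩ k) else 0)
      else 0 := by
    intro k z
    split_ifs with hz hw
    · rw [Finset.sum_eq_single (cjE D ⟨z, hz⟩ k)]
      · rw [if_pos]
        have h1 : z * g ^ i.val * z⁻¹ = g ^ i'.val := hw ▸ conj_pow_g D ⟨z, hz⟩ i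
        rw [coe_cjE, ← h1]
        group
      · intro k' _ hk'
        rw [if_neg]
        intro e
        apply hk'
        refine Subtype.ext ?_
        have h1 : z * g ^ i.val * z⁻¹ = g ^ i'.val := hw ▸ conj_pow_g D ⟨z, hz⟩ i
        rw [coe_cjE]
        refine mul_left_cancel (a := g ^ i'.val) (e.symm.trans ?_)
        rw [← h1]; group
      · exact fun h' => absurd (Finset.mem_univ _) h'
    · refine Finset.sum_eq_zero fun k' _ => if_neg fun e => hw ?_
      have h1 : z * (g ^ i.val * k) * z⁻¹ =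
          g ^ ((wt D ⟨z, hz⟩ : ZMod p) * i).val * (cjE D ⟨z, hz⟩ k : K) := by
        rw [coe_cjE, ← conj_pow_g D ⟨z, hz⟩ i]; group
      exact (decomp_unique D (cjE D ⟨z, hz⟩ k).2 k'.2 (h1.symm.trans e)).1
    · refine Finset.sum_eq_zero fun k' _ => if_neg fun e => hz ?_
      have h1 : z * g ^ i.val * z⁻¹ = g ^ i'.val := ppart_unique hp
        (isPPart_conj (D.isPPart i.val k.2) z) (e ▸ D.isPPart i'.val k'.2)
      rw [← D.zpowers_pow (val_ne_zero_of_ne hi), Subgroup.mem_normalizer_iff]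
      have hmap : (Subgroup.zpowers (g ^ i.val)).map (MulAut.conj z).toMonoidHom =
          Subgroup.zpowers (g ^ i.val) := by
        refine eq_of_le_of_card_le ?_ (card_map_conj _ _).ge
        rw [MonoidHom.map_zpowers, Subgroup.zpowers_le, D.zpowers_pow (val_ne_zero_of_ne hi)]
        show z * g ^ i.val * z⁻¹ ∈ _
        rw [h1, ← D.gen]; exact Subgroup.npow_mem_zpowers _ _
      intro b
      constructor <;> intro hb
      · rw [← hmap]; exact ⟨b, hb, rfl⟩
      · rw [← hmap] at hb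
        obtain ⟨c, hc, he⟩ := hb
        exact (MulAut.conj z).injective he ▸ hc
  have hdd : ∀ χ j, dd D φ χ j =
      n⁻¹ * ∑ k : K, (χ : G → ℂ) (g ^ j.val * k) * conj ((φ : K → ℂ) k) :=
    fun χ j => classInner_def _ _
  calc ∑ χ : Cfsg.IrrCharacter G, dd D φ χ i * conj (dd D φ χ i')
      = n⁻¹ * n⁻¹ * ∑ k : K, conj ((φ : K → ℂ) k) * ∑ k' : K, (φ : K → ℂ) k' *
          ∑ χ : Cfsg.IrrCharacter G,
            (χ : G → ℂ) (g ^ i.val * k) * conj ((χ : G → ℂ) (g ^ i'.val * k')) := by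
        simp only [hdd, map_mul, map_inv₀, map_sum, Complex.conj_conj, Finset.mul_sum,
          Finset.sum_mul, n, Complex.conj_natCast]
        rw [Finset.sum_congr rfl fun (χ : Cfsg.IrrCharacter G) _ => Finset.sum_comm,
          Finset.sum_comm]
        refine Finset.sum_congr rfl fun k _ => ?_
        rw [Finset.sum_comm]
        exact Finset.sum_congr rfl fun k' _ => Finset.sum_congr rfl fun χ _ => by ring
    _ = n⁻¹ * n⁻¹ * ∑ k : K, conj ((φ : K → ℂ) k) * ∑ z : G,
          (if hz : z ∈ NP then (if (wt D ⟨z, hz⟩ : ZMod p) * i = i' then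
            (φ : K → ℂ) (cjE D ⟨z, hz⟩ k) else 0) else 0) := by
        congr 1
        refine Finset.sum_congr rfl fun k _ => congrArg _ ?_
        simp only [sum_char_pair, ← hinner k]
        rw [Finset.sum_comm]
        refine Finset.sum_congr rfl fun k' _ => ?_
        rw [← Finset.sum_filter, Finset.sum_const, nsmul_eq_mul]
        ring
    _ = n⁻¹ * n⁻¹ * ∑ z : NP, if (wt D z : ZMod p) * i = i' then
          ∑ k : K, conj ((φ : K → ℂ) k) * (φ : K → ℂ) (cjE D z k) else 0 := by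
        congr 1
        simp only [Finset.mul_sum]
        rw [Finset.sum_comm]
        rw [← Finset.sum_subset (Finset.subset_univ (Finset.univ.filter fun z : G => z ∈ NP))
          (fun z _ hz => Finset.sum_eq_zero fun k _ => by
            rw [dif_neg (by simpa using hz), mul_zero]),
          Finset.sum_subtype _ (fun z => by simp) (p := fun z : G => z ∈ NP)]
        refine Finset.sum_congr rfl fun z _ => ?_
        simp only [dif_pos z.2, Subtype.coe_eta]
        split_ifs <;> simp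
    _ = n⁻¹ * n⁻¹ * ∑ z : NP,
          if (wt D z : ZMod p) * i = i' ∧ z ∈ stab D φ then n else 0 := by
        congr 1
        refine Finset.sum_congr rfl fun z _ => ?_
        have h1 : ∑ k : K, conj ((φ : K → ℂ) k) * (φ : K → ℂ) (cjE D z k) =
            n * Cfsg.classInner ((cjI D z φ : Cfsg.IrrCharacter K) : K → ℂ) (φ : K → ℂ) := by
          rw [classInner_def, mul_inv_cancel_left₀ hn, coe_cjI]
          exact Finset.sum_congr rfl fun k _ => mul_comm _ _
        rw [h1, classInner_irr]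
        simp only [mem_stab]
        split_ifs with a b c <;> simp_all
    _ = _ := by
        split_ifs with hv
        · obtain ⟨v, hv, hvi⟩ := hv
          have hiff : ∀ z : NP, ((wt D z : ZMod p) * i = i' ∧ z ∈ stab D φ) ↔
              (z ∈ stab D φ ∧ wt D z = v) := fun z => by
            rw [← hvi, mul_left_inj' hi, Units.val_inj, and_comm]
          rw [← Finset.sum_filter, Finset.sum_const, Finset.filter_congr fun z _ => hiff z,
            card_fiber D φ hv, nsmul_eq_mul, Nat.cast_mul]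
          show n⁻¹ * n⁻¹ * ((p : ℂ) * n * n) = (p : ℂ)
          field_simp
        · rw [Finset.sum_eq_zero fun z _ => if_neg fun h' => hv
            ⟨wt D z, Subgroup.mem_map_of_mem _ h'.2, h'.1⟩, mul_zero]

/-- The decomposition numbers are orthogonal to the values at `p`-regular elements. -/
theorem sum_dd_mul_regular [Fintype (Cfsg.IrrCharacter G)] (φ : Cfsg.IrrCharacter K)
    {i : ZMod p} (hi : i ≠ 0) {y : G} (hy : ¬ p ∣ orderOf y) :
    ∑ χ : Cfsg.IrrCharacter G, dd D φ χ i * (χ : G → ℂ) y = 0 := by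
  classical
  have h0 : ∀ k : K, ∑ χ : Cfsg.IrrCharacter G, (χ : G → ℂ) (g ^ i.val * k) * (χ : G → ℂ) y = 0 := by
    intro k
    rw [Finset.sum_congr rfl fun (χ : Cfsg.IrrCharacter G) _ =>
      show (χ : G → ℂ) (g ^ i.val * k) * (χ : G → ℂ) y =
        (χ : G → ℂ) (g ^ i.val * k) * conj ((χ : G → ℂ) y⁻¹) by
        rw [char_inv (irr_isCharacter χ), Complex.conj_conj], second_orthogonality, if_neg]
    intro hc
    obtain ⟨z, hz⟩ := isConj_iff.1 hc
    have h1 : Cfsg.IsPPart p y⁻¹ (z * g ^ i.val * z⁻¹) :=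
      hz ▸ isPPart_conj (D.isPPart i.val k.2) z
    have h2 := ppart_unique (Fact.out : p.Prime) h1
      (isPPart_one (Fact.out : p.Prime) (by rwa [orderOf_inv]))
    have h3 : g ^ i.val = 1 := conj_eq_one_iff.1 h2
    have := D.orderOf_pow (val_ne_zero_of_ne hi)
    rw [h3, orderOf_one] at this
    exact (Fact.out : p.Prime).ne_one this.symm
  simp only [dd, classInner_def, Finset.mul_sum, Finset.sum_mul]
  rw [Finset.sum_comm]
  refine Finset.sum_eq_zero fun k _ => ?_
  rw [Finset.sum_congr rfl fun (χ : Cfsg.IrrCharacter G) _ =>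
    show (Nat.card K : ℂ)⁻¹ * ((χ : G → ℂ) (g ^ i.val * k) * conj ((φ : K → ℂ) k)) *
      (χ : G → ℂ) y = ((Nat.card K : ℂ)⁻¹ * conj ((φ : K → ℂ) k)) *
        ((χ : G → ℂ) (g ^ i.val * k) * (χ : G → ℂ) y) by ring, ← Finset.mul_sum, h0, mul_zero]

end Cfsg.Agent.Blocks.PrimeBlock
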