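import Mathlib
import Cfsg.Agent.Lib.Blocks.PrimeBlock.Decomp
import Cfsg.Agent.Lib.CharTheory.ExtendChar

/-!
# The inertia group of a character of `K` and the expansion over its orbit
-/

set_option linter.style.haveILetI false
set_option linter.unusedSectionVars false

namespace Cfsg.Agent.Blocks.PrimeBlock

open Cfsg.Agent.Characters Cfsg.Agent.Blocks Cfsg.Agent.CharTheory
open scoped ComplexConjugate

universe u

variable {G : Type u} [Group G] [Finite G] {p : ℕ} [Fact p.Prime] {M : Ideal Cfsg.AlgInt}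
  {P : Sylow p G} {g : G} {K : Subgroup G} {h : G} {u : (ZMod p)ˣ} [Fintype K]
  (D : PrimeData p P g K h u)

local notation "CP" => Subgroup.centralizer (((P : Subgroup G)) : Set G)

local notation "NP" => Subgroup.normalizer (((P : Subgroup G)) : Set G)

/-- The inertia group of `φ`. -/
noncomputable def inertia (φ : Cfsg.IrrCharacter K) : Subgroup G :=
  (stab D φ).map (NP : Subgroup G).subtype

theorem mem_inertia {φ : Cfsg.IrrCharacter K} {x : G} :
    x ∈ inertia D φ ↔ ∃ hx : x ∈ NP, cjI D ⟨x, hx⟩ φ = φ := by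
  constructor
  · rintro ⟨a, ha, rfl⟩
    exact ⟨a.2, ha⟩
  · rintro ⟨hx, hx'⟩
    exact ⟨⟨x, hx⟩, hx', rfl⟩

theorem inertia_le_normalizer (φ : Cfsg.IrrCharacter K) : inertia D φ ≤ NP := fun _ hx =>
  ((mem_inertia D).1 hx).1

theorem centralizer_le_inertia (φ : Cfsg.IrrCharacter K) : CP ≤ inertia D φ := fun _ hx =>
  (mem_inertia D).2 ⟨Subgroup.centralizer_le_normalizer _ hx, mem_stab_of_centralizer D φ hx⟩

theorem cjE_of_mem (φ : Cfsg.IrrCharacter K) {x : G} (hx : x ∈ inertia D φ) (k : K) :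
    (φ : K → ℂ) (cjE D ⟨x, inertia_le_normalizer D φ hx⟩ k) = (φ : K → ℂ) k := by
  obtain ⟨hx', e⟩ := (mem_inertia D).1 hx
  exact congrFun (congrArg Subtype.val e) k

/-- The inertial index. -/
theorem relIndex_inertia (φ : Cfsg.IrrCharacter K) :
    (CP).relIndex (inertia D φ) = Nat.card (sgp D φ) := by
  classical
  haveI := Fintype.ofFinite NP
  set F : stab D φ →* (ZMod p)ˣ := (wt D).comp (stab D φ).subtype
  have hrange : F.range = sgp D φ := by
    rw [MonoidHom.range_comp, Subgroup.range_subtype]; rfl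
  have hker : Nat.card F.ker = Nat.card CP := by
    refine Nat.card_congr
      { toFun := fun a => ⟨((a : stab D φ) : NP), (wt_eq_one_iff D _).1 a.2⟩
        invFun := fun c => ⟨⟨⟨c, Subgroup.centralizer_le_normalizer _ c.2⟩,
          mem_stab_of_centralizer D φ c.2⟩, (wt_eq_one_iff D ⟨c, _⟩).2 c.2⟩
        left_inv := fun a => rfl
        right_inv := fun c => rfl }
  have h1 := F.ker.index_mul_card
  rw [Subgroup.index_ker, hrange, hker] at h1
  have h2 : Nat.card (inertia D φ) = Nat.card (stab D φ) :=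
    Subgroup.card_map_of_injective (NP : Subgroup G).subtype_injective
  have h3 := Subgroup.relIndex_mul_index (H := (CP)) (centralizer_le_inertia D φ)
  have h4 := (CP : Subgroup G).index_mul_card
  have h5 := (inertia D φ).index_mul_card
  have hpos : 0 < Nat.card CP * (inertia D φ).index :=
    Nat.mul_pos Nat.card_pos (Nat.pos_of_ne_zero Subgroup.index_ne_zero_of_finite)
  refine Nat.eq_of_mul_eq_mul_right hpos ?_
  calc (CP).relIndex (inertia D φ) * (Nat.card CP * (inertia D φ).index)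
      = ((CP).relIndex (inertia D φ) * (inertia D φ).index) * Nat.card CP := by ring
    _ = (inertia D φ).index * Nat.card (inertia D φ) := by rw [h3, h4, h5]
    _ = Nat.card (sgp D φ) * (Nat.card CP * (inertia D φ).index) := by rw [h2, ← h1]; ring

theorem card_sgp_dvd (φ : Cfsg.IrrCharacter K) : Nat.card (sgp D φ) ∣ p - 1 := by
  have := (sgp D φ).card_subgroup_dvd_card
  rwa [Nat.card_eq_fintype_card (α := (ZMod p)ˣ), ZMod.card_units] at this

/-- Generators of the inertia group. -/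
theorem exists_inertia_gen (φ : Cfsg.IrrCharacter K) :
    ∃ t ∈ inertia D φ, ∃ v : (ZMod p)ˣ, t * g * t⁻¹ = g ^ (v : ZMod p).val ∧
      orderOf v = Nat.card (sgp D φ) ∧ t ^ orderOf v ∈ K ∧
      ∀ a ∈ inertia D φ, ∃ j i : ℕ, ∃ k ∈ K, a = t ^ j * (g ^ i * k) := by
  obtain ⟨⟨v, hv⟩, hgen⟩ := IsCyclic.exists_generator (α := sgp D φ)
  obtain ⟨t₀, ht₀, rfl⟩ := id hv
  set t : NP := t₀ ^ p with ht
  have hwt : wt D t = wt D t₀ := by
    rw [ht, map_pow]
    exact Units.ext (by rw [Units.val_pow_eq_pow_val]; exact ZMod.pow_card _)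
  have hord : orderOf (wt D t₀) = Nat.card (sgp D φ) := by
    rw [← orderOf_eq_card_of_forall_mem_zpowers hgen, Subgroup.orderOf_mk]
  refine ⟨t, Subgroup.mem_map_of_mem _ (pow_mem ht₀ p), wt D t₀, hwt ▸ wt_spec D t, hord, ?_,
    fun a ha => ?_⟩
  · have h1 : ((t₀ ^ orderOf (wt D t₀) : NP) : G) ∈ CP :=
      (wt_eq_one_iff D _).1 (by rw [map_pow, pow_orderOf_eq_one])
    obtain ⟨i, k, hk, e⟩ := D.decomp _ h1
    rw [ht, ← Subgroup.coe_pow, ← pow_mul, mul_comm, pow_mul, Subgroup.coe_pow, e,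
      ((D.commute_of_mem hk).pow_left i).mul_pow, ← pow_mul, mul_comm i p, pow_mul,
      show g ^ p = 1 by simpa [D.order] using pow_orderOf_eq_one g, one_pow, one_mul]
    exact pow_mem hk p
  · obtain ⟨ha', e'⟩ := (mem_inertia D).1 ha
    have hmem := hgen ⟨wt D ⟨a, ha'⟩, Subgroup.mem_map_of_mem _ e'⟩
    rw [← mem_powers_iff_mem_zpowers] at hmem
    obtain ⟨j, hj⟩ := hmem
    have hj' : wt D t₀ ^ j = wt D ⟨a, ha'⟩ := by simpa using congrArg Subtype.val hj
    have h1 : (((t ^ j)⁻¹ * ⟨a, ha'⟩ : NP) : G) ∈ CP := (wt_eq_one_iff D _).1 (by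
      rw [map_mul, map_inv, map_pow, hwt, hj', inv_mul_cancel])
    obtain ⟨i, k, hk, e⟩ := D.decomp _ h1
    exact ⟨j, i, k, hk, by rw [← e]; simp⟩

/-- The orbit of `φ`. -/
noncomputable def orb (φ : Cfsg.IrrCharacter K) : Finset (Cfsg.IrrCharacter K) :=
  (Set.toFinite (Set.range fun a : NP => cjI D a φ)).toFinset

theorem mem_orb {φ φ' : Cfsg.IrrCharacter K} : φ' ∈ orb D φ ↔ ∃ a : NP, cjI D a φ = φ' := by
  simp [orb]

open Classical in
/-- A weight of an element moving `φ` to `φ'`. -/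
noncomputable def worb (φ φ' : Cfsg.IrrCharacter K) : (ZMod p)ˣ :=
  if hx : ∃ a : NP, cjI D a φ = φ' then wt D hx.choose else 1

theorem dd_orb {φ φ' : Cfsg.IrrCharacter K} (h' : φ' ∈ orb D φ) (χ : Cfsg.IrrCharacter G)
    (i : ZMod p) : dd D φ' χ i = dd D φ χ ((worb D φ φ' : ZMod p) * i) := by
  have hx := (mem_orb D).1 h'
  rw [worb, dif_pos hx, ← dd_cjI, hx.choose_spec]

theorem card_orb (φ : Cfsg.IrrCharacter K) : (orb D φ).card = (stab D φ).index := by
  set F : NP ⧸ stab D φ → Cfsg.IrrCharacter K := fun q => Quotient.liftOn' q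
    (fun a => cjI D a⁻¹ φ) (fun a b hab => by
      rw [QuotientGroup.leftRel_apply] at hab
      calc cjI D a⁻¹ φ = cjI D a⁻¹ (cjI D (b⁻¹ * a) φ) := by
            rw [(mem_stab D).1 (by simpa using (stab D φ).inv_mem hab : b⁻¹ * a ∈ stab D φ)]
        _ = cjI D b⁻¹ φ := by rw [← cjI_mul, mul_inv_cancel_right])
  have hinj : Function.Injective F := fun q q' e => by
    induction q using QuotientGroup.induction_on with | H a => ?_
    induction q' using QuotientGroup.induction_on with | H b => ?_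
    replace e : cjI D a⁻¹ φ = cjI D b⁻¹ φ := e
    rw [QuotientGroup.eq, mem_stab, cjI_mul, e, ← cjI_mul, inv_mul_cancel, cjI_one]
  have hrange : Set.range F = Set.range fun a : NP => cjI D a φ := by
    refine Set.Subset.antisymm ?_ ?_
    · rintro _ ⟨q, rfl⟩
      induction q using QuotientGroup.induction_on with | H a => ?_
      exact ⟨a⁻¹, rfl⟩
    · rintro _ ⟨a, rfl⟩
      exact ⟨((a⁻¹ : NP) : NP ⧸ stab D φ), show cjI D a⁻¹⁻¹ φ = _ by rw [inv_inv]⟩
  rw [Subgroup.index, ← Nat.card_congr (Equiv.ofInjective F hinj).symm, hrange, orb,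
    Nat.card_eq_card_finite_toFinset]

theorem card_orb_mul (φ : Cfsg.IrrCharacter K) :
    Nat.card (sgp D φ) * (orb D φ).card = orderOf u := by
  rw [card_orb, ← relIndex_inertia, D.order_u]
  have h1 : (stab D φ).index = (inertia D φ).relIndex NP := by
    rw [Subgroup.relIndex]
    congr 1
    ext a
    rw [Subgroup.mem_subgroupOf, mem_inertia]
    exact ⟨fun ha => ⟨a.2, ha⟩, fun ⟨_, ha⟩ => ha⟩
  rw [h1]
  exact Subgroup.relIndex_mul_relIndex _ _ _ (centralizer_le_inertia D φ)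
    (inertia_le_normalizer D φ)

theorem card_orb_pos (φ : Cfsg.IrrCharacter K) : 0 < (orb D φ).card :=
  Finset.card_pos.2 ⟨φ, (mem_orb D).2 ⟨1, cjI_one D φ⟩⟩

theorem orb_one {φ φ' : Cfsg.IrrCharacter K} (h' : φ' ∈ orb D φ) :
    (φ' : K → ℂ) 1 = (φ : K → ℂ) 1 := by
  obtain ⟨a, rfl⟩ := (mem_orb D).1 h'
  exact congrArg (φ : K → ℂ) (map_one (cjE D a))

/-- Expansion of a member of `B` over the orbit of `φ`. -/
theorem value_orbit (hM : Cfsg.IsPModular p M) {B : Set (Cfsg.IrrCharacter G)}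
    (hB : Cfsg.IsPBlock M B) (hBP : Cfsg.IsDefectGroup p M B (P : Subgroup G))
    {φ : Cfsg.IrrCharacter K} (hind : Cfsg.IsInducedBlock M CP (bl D M φ) B)
    {χ : Cfsg.IrrCharacter G} (hχ : χ ∈ B) {i : ZMod p} (hi : i ≠ 0) (k : K) :
    (χ : G → ℂ) (g ^ i.val * k) =
      ∑ φ' ∈ orb D φ, dd D φ χ ((worb D φ φ' : ZMod p) * i) * (φ' : K → ℂ) k := by
  classical
  haveI := Fintype.ofFinite (Cfsg.IrrCharacter K)
  rw [value_eq_sum D χ i k,
    ← Finset.sum_subset (Finset.subset_univ (orb D φ)) fun φ' _ h' => ?_]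
  · exact Finset.sum_congr rfl fun φ' h' => by rw [dd_orb D h']
  · by_contra hne
    obtain ⟨a, ha⟩ := conj_of_induced D hM hBP hind
      (induced_of_dd_ne_zero D hM hB hχ hi fun e => hne (by rw [e, zero_mul]))
    exact h' ((mem_orb D).2 ⟨a, ha.symm⟩)

theorem value_g (hM : Cfsg.IsPModular p M) {B : Set (Cfsg.IrrCharacter G)}
    (hB : Cfsg.IsPBlock M B) (hBP : Cfsg.IsDefectGroup p M B (P : Subgroup G))
    {φ : Cfsg.IrrCharacter K} (hind : Cfsg.IsInducedBlock M CP (bl D M φ) B)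
    {χ : Cfsg.IrrCharacter G} (hχ : χ ∈ B) :
    (χ : G → ℂ) g = (φ : K → ℂ) 1 * ∑ φ' ∈ orb D φ, dd D φ χ (worb D φ φ' : ZMod p) := by
  have h1 := value_orbit D hM hB hBP hind hχ (i := 1) one_ne_zero (1 : K)
  rw [ZMod.val_one, pow_one, Subgroup.coe_one, mul_one] at h1
  rw [h1, Finset.mul_sum]
  exact Finset.sum_congr rfl fun φ' h' => by rw [orb_one D h', mul_one, mul_comm]

/-- A member of a block of full defect has a nonzero decomposition number. -/
theorem exists_dd_ne_zero (hM : Cfsg.IsPModular p M) {B : Set (Cfsg.IrrCharacter G)}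
    (hB : Cfsg.IsPBlock M B) (hBP : Cfsg.IsDefectGroup p M B (P : Subgroup G))
    {φ : Cfsg.IrrCharacter K} (hind : Cfsg.IsInducedBlock M CP (bl D M φ) B)
    {χ : Cfsg.IrrCharacter G} (hχ : χ ∈ B) : ∃ i : ZMod p, i ≠ 0 ∧ dd D φ χ i ≠ 0 := by
  by_contra hcon
  push Not at hcon
  have hvan : ∀ x : G, orderOf x = p → (χ : G → ℂ) x = 0 := by
    intro x hx
    rcases D.regular_or_conj x with h' | ⟨n, hn, k, hk, hc⟩
    · exact absurd hx.symm.dvd h'
    obtain ⟨c, hc⟩ := isConj_iff.1 hc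
    have hn0 : (n : ZMod p) ≠ 0 := fun h' => hn ((ZMod.natCast_eq_zero_iff _ _).1 h')
    rw [← irr_isClassFunction χ x c, hc,
      pow_eq_of_natCast D.order (ZMod.natCast_rightInverse (n : ZMod p)).symm,
      value_orbit D hM hB hBP hind hχ hn0 ⟨k, hk⟩]
    exact Finset.sum_eq_zero fun φ' _ => by
      rw [hcon _ (mul_ne_zero (Units.ne_zero _) hn0), zero_mul]
  have h1 := blockDefect_zero_of_vanish hM χ hvan
  rw [← block_eq_blockOf hM hB hχ] at h1
  have h2 := card_defectGroup hM hB hBP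
  rw [h1, pow_zero, D.card_sylow] at h2
  exact (Fact.out : p.Prime).ne_one h2

end Cfsg.Agent.Blocks.PrimeBlock
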