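import Mathlib
import Cfsg.Agent.Lib.Blocks.StableBound
import Cfsg.Agent.Lib.Blocks.PrimeBlock.MatrixUnits

/-!
# The stable bound for a character of the `p'`-part of the centraliser

Generalises `abs_sum_conjugates_le_one` from the trivial character of `K` to an irreducible
character extended to its stabiliser.
-/

set_option linter.style.haveILetI false
set_option linter.unusedSectionVars false

namespace Cfsg.Agent.Blocks.PrimeBlock

open Module Polynomial MonoidAlgebra Cfsg.Agent.Characters Cfsg.Agent.Blocks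
open scoped ComplexConjugate

universe u

variable {G : Type u} [Group G] [Finite G] {p : ℕ} {M : Ideal Cfsg.AlgInt}

set_option maxHeartbeats 3200000 in
/-- **The stable bound.** -/
theorem abs_sum_conjugates_le_one' (hM : Cfsg.IsPModular p M) [Fact p.Prime] (P : Sylow p G)
    (hP : Nat.card (P : Subgroup G) = p) {g : G} (hg : g ∈ (P : Subgroup G)) (hg1 : g ≠ 1)
    {K : Subgroup G} [Fintype K] (hKn : ∀ a ∈ Subgroup.normalizer ((P : Subgroup G) : Set G),
      ∀ k ∈ K, a * k * a⁻¹ ∈ K)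
    (hKg : ∀ k ∈ K, Commute g k) (hKp : ¬ p ∣ Nat.card K)
    {T : Subgroup G} (hTN : T ≤ Subgroup.normalizer ((P : Subgroup G) : Set G)) (hKT : K ≤ T)
    (hgT : g ∈ T) {h : G} (hh : h ∈ T) {u : ℕ} (hu : u.Coprime p)
    (hhg : h * g * h⁻¹ = g ^ u) {e : ℕ} (he : 0 < e) (heK : h ^ e ∈ K)
    (hgen : ∀ a ∈ T, ∃ j i : ℕ, ∃ k ∈ K, a = h ^ j * (g ^ i * k))
    {m : ℕ} (hm : ¬ p ∣ m) (hem : e ∣ m) {ξ : ℂ} (hξ : IsPrimitiveRoot ξ (m * p))
    (hξi : IsIntegral ℤ ξ)
    {d₀ : ℕ} (hd₀ : 0 < d₀) (V : T →* Matrix (Fin d₀) (Fin d₀) (cycLocal hM (hξi.pow p)))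
    (hVg : V ⟨g, hgT⟩ = 1) {φ₁ : K → ℂ} (hφ₁ : Cfsg.IsIrrCharacter K φ₁)
    (hVtr : ∀ k : K, (((V ⟨k, hKT k.2⟩).trace : cycLocal hM (hξi.pow p)) : ℂ) = φ₁ k)
    (hmove : ∀ a (ha : a ∈ Subgroup.normalizer ((P : Subgroup G) : Set G)), a ∉ T →
      ∑ k : K, φ₁ k⁻¹ * φ₁ ⟨a * k * a⁻¹, hKn a ha k k.2⟩ = 0)
    {r : ℕ} (θ : Fin r → Cfsg.IrrCharacter G) (hinj : Function.Injective θ)
    (j₀ : Fin r) {n : ℕ} (hdeg : ∀ j, (θ j : G → ℂ) 1 = n) (hnm : n < m)
    (hθS : ∀ a, (θ j₀ : G → ℂ) a ∈ cycLocal hM hξi)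
    (hΘR : ∀ a, ∑ j, (θ j : G → ℂ) a ∈ cycLocal hM (hξi.pow p))
    (hσ : ∀ j, ∃ σ : cycLocal hM hξi →+* ℂ,
      (∀ s : cycLocal hM hξi, (s : ℂ) ∈ cycLocal hM (hξi.pow p) → σ s = s) ∧
      (∀ s, Cong M (σ s) (s : ℂ)) ∧
      ∀ a, σ ⟨_, hθS a⟩ = (θ j : G → ℂ) a)
    (v : ℤ) (hv : ∀ i : ℕ, 0 < i → i < p →
      ∑ k : K, (∑ j, (θ j : G → ℂ) (g ^ i * k)) * φ₁ k⁻¹ = (Nat.card K : ℂ) * v) :
    |v| ≤ 1 := by
  classical
  letI := Fintype.ofFinite G
  have hp : p.Prime := Fact.out
  revert V hVg hVtr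
  set η := ξ ^ p
  set R := cycLocal hM (hξi.pow p) with hR
  set S := cycLocal hM hξi with hS
  intro V hVg hVtr
  have hm0 : 0 < m := Nat.pos_of_ne_zero fun e => hm (by rw [e]; exact dvd_zero p)
  have hη : IsPrimitiveRoot η m := hξ.pow (Nat.mul_pos hm0 hp.pos) (mul_comm m p)
  have hηm : η ^ m = 1 := hη.pow_eq_one
  have hπR : IsUnif hM (cycAlg η) (fun _ => isIntegral_cycAlg (hξi.pow p)) ((p : ℕ) : R) :=
    exists_unif_unramified hM hm hηm _
  haveI : IsLocalRing R := isLocalRing_localSub hM _ _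
  haveI : IsPrincipalIdealRing R := isPrincipalIdealRing_localSub hπR
  have hπS := exists_unif_ramified hM hm hξ (fun _ => isIntegral_cycAlg hξi)
  haveI : IsPrincipalIdealRing S := isPrincipalIdealRing_localSub hπS
  have hmax : IsLocalRing.maximalIdeal R = Ideal.span {((p : ℕ) : R)} := by
    refine le_antisymm (fun z hz => Ideal.mem_span_singleton.2 (dvd_of_ideal hπR ?_))
      ((Ideal.span_singleton_le_iff_mem _).2 fun hu' => ?_)
    · by_contra h0
      exact hz ((localSub_isUnit_iff hM _ _ z).2 h0)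
    · exact (localSub_isUnit_iff hM _ _ _).1 hu' hπR.ideal
  have hRS : R ≤ S := by
    rintro _ ⟨a, ha, b, hb, hbM, rfl⟩
    have hle : cycAlg η ≤ cycAlg ξ := Algebra.adjoin_le (Set.singleton_subset_iff.2
      (pow_mem (self_mem_cycAlg ξ) p))
    exact ⟨a, hle ha, b, hle hb, hbM, rfl⟩
  set ι : R →+* S := Subring.inclusion hRS
  -- elements and idempotents
  obtain ⟨q, hq⟩ : n ∣ Nat.card G := by
    have := char_degree_dvd_card (θ j₀)
    rwa [show Cfsg.charDegree (θ j₀ : G → ℂ) = n from Nat.cast_injective (R := ℂ)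
      (by rw [charDegree_cast, hdeg])] at this
  have hn0 : n ≠ 0 := by rintro rfl; exact irr_one_ne_zero (θ j₀).2 (by rw [hdeg]; simp)
  have hq0 : q ≠ 0 := by rintro rfl; rw [mul_zero] at hq; exact Nat.card_pos.ne' hq
  set E : Fin r → MonoidAlgebra ℂ G := fun j => (q : ℂ) • blockIdem {θ j} with hE
  have hEcoef : ∀ j a, (E j).coeff a = (θ j : G → ℂ) a⁻¹ := by
    intro j a
    rw [hE, MonoidAlgebra.coeff_smul, Finsupp.smul_apply, coeff_blockIdem, Cfsg.blockCoeff,
      finsum_mem_singleton, ← char_inv (irr_isCharacter (θ j)), smul_eq_mul, hdeg, hq, Nat.cast_mul]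
    field_simp
  have hEmul : ∀ j k, E j * E k = if j = k then (q : ℂ) • E j else 0 := by
    intro j k
    rw [hE, smul_mul_smul_comm, blockIdem_mul]
    split_ifs with hjk
    · rw [hjk, Set.inter_self, smul_smul]
    · rw [Set.singleton_inter_eq_empty.2 (by simpa using fun e => hjk (hinj e)),
        show blockIdem (∅ : Set (Cfsg.IrrCharacter G)) = 0 from el_ext fun a => by
          simp [Cfsg.blockCoeff], smul_zero]
  set EΘ : MonoidAlgebra R G := Lattice.ofCoeff fun a => ⟨_, hΘR a⁻¹⟩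
  set E₁ : MonoidAlgebra S G := Lattice.ofCoeff fun a => ⟨_, hθS a⁻¹⟩
  have hpΘ : Lattice.push R.subtype EΘ = ∑ j, E j := el_ext fun a => by
    rw [Lattice.coeff_push, MonoidAlgebra.coeff_sum, Finset.sum_apply']
    simp only [hEcoef]
    rfl
  have hpE₁ : Lattice.push S.subtype E₁ = E j₀ := el_ext fun a => by
    rw [Lattice.coeff_push, hEcoef]; rfl
  have hEc : ∀ j x, E j * x = x * E j := fun j x => by
    rw [hE, smul_mul_assoc, mul_smul_comm, (central_commute (central_blockIdem _) x).eq]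
  have hEΘ : EΘ * EΘ = (q : R) • EΘ := Lattice.push_injective Subtype.val_injective (by
    rw [map_mul, Lattice.push_smul, map_natCast, hpΘ, Finset.sum_mul, Finset.smul_sum]
    refine Finset.sum_congr rfl fun j _ => ?_
    rw [Finset.mul_sum]
    simp [hEmul])
  have hE₁ : E₁ * E₁ = (q : S) • E₁ := Lattice.push_injective Subtype.val_injective (by
    rw [map_mul, Lattice.push_smul, map_natCast, hpE₁, hEmul, if_pos rfl])
  have hEΘc : ∀ x, EΘ * x = x * EΘ := fun x => Lattice.push_injective Subtype.val_injective (by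
    rw [map_mul, map_mul, hpΘ, Finset.sum_mul, Finset.mul_sum]
    exact Finset.sum_congr rfl fun j _ => hEc j _)
  have hE₁c : ∀ x, E₁ * x = x * E₁ := fun x => Lattice.push_injective Subtype.val_injective (by
    rw [map_mul, map_mul, hpE₁, hEc])
  obtain ⟨_, _⟩ := Lattice.ofBasis_free EΘ
  obtain ⟨_, _⟩ := Lattice.ofBasis_free E₁
  let L := Lattice.lat EΘ
  set act := Lattice.lact EΘ
  obtain ⟨ρ, hρ⟩ : ∃ ρ : G →* Module.End R L, ∀ a, ρ a = act (single a 1) :=
    ⟨(act : MonoidAlgebra R G →* Module.End R L).comp (MonoidAlgebra.of R G), fun _ => rfl⟩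
  have htr : ∀ a, ((LinearMap.trace R L (ρ a) : R) : ℂ) = n * ∑ j, (θ j : G → ℂ) a := by
    intro a
    have h1 := congrArg R.subtype (Lattice.trace_single_mul EΘ hEΘ a)
    rw [map_mul, map_natCast, map_sum] at h1
    have h2 : ∑ b : G, R.subtype (EΘ.coeff ((a * b)⁻¹ * b)) =
        (Nat.card G : ℂ) * ∑ j, (θ j : G → ℂ) a := by
      have h3 : ∀ b : G, R.subtype (EΘ.coeff ((a * b)⁻¹ * b)) = ∑ j, (θ j : G → ℂ) a := fun b => by
        show ∑ j, (θ j : G → ℂ) ((a * b)⁻¹ * b)⁻¹ = _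
        refine Finset.sum_congr rfl fun j _ => ?_
        rw [show ((a * b)⁻¹ * b)⁻¹ = b⁻¹ * a * b⁻¹⁻¹ by group]
        exact irr_isClassFunction _ _ _
      rw [Finset.sum_congr rfl fun b _ => h3 b, Finset.sum_const, Finset.card_univ,
        Nat.card_eq_fintype_card, nsmul_eq_mul]
    rw [h2, hq, Nat.cast_mul, mul_comm (n : ℂ), mul_assoc] at h1
    rw [hρ a]
    exact mul_left_cancel₀ (Nat.cast_ne_zero.2 hq0) h1
  -- the matrix units of `K`
  have hKu : IsUnit ((Nat.card K : ℕ) : R) := (localSub_isUnit_iff hM _ _ _).2 (by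
    rw [show (((Nat.card K : ℕ) : R) : ℂ) = (Nat.card K : ℂ) from map_natCast R.subtype _]
    exact fun h => hKp ((ideal_natCast_iff hM _).1 h))
  obtain ⟨ki, hki⟩ := hKu.exists_left_inv
  set s₀ : R := (d₀ : R) * ki
  have hs₀ : (s₀ : ℂ) * Nat.card K = d₀ := by
    have h2 := congrArg R.subtype hki
    rw [map_mul, map_natCast, map_one] at h2
    show R.subtype s₀ * _ = _
    rw [map_mul, map_natCast, mul_assoc, h2, mul_one]
  set VK : K →* Matrix (Fin d₀) (Fin d₀) R := V.comp (Subgroup.inclusion hKT)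
  have hirr₁ : Cfsg.IsIrrCharacter K fun k => (((VK k).trace : R) : ℂ) := by
    convert hφ₁ using 2 with k
    exact hVtr k
  set ρK : K →* Module.End R L := ρ.comp K.subtype
  set E₀ : Fin d₀ → Fin d₀ → Module.End R L := unit s₀ VK ρK
  have hρE₀ : ∀ (x : K) c e', ρK x * E₀ c e' = ∑ a, VK x a c • E₀ a e' := by
    intro x c e'
    refine (map_mul_unit (A := Module.End R L) (s := s₀) (V := VK) (ρ := ρK) x c e').trans ?_
    exact rfl
  set i₀ : Fin d₀ := ⟨0, hd₀⟩
  have hEE : ∀ a b c e', E₀ a b * E₀ c e' = if b = c then E₀ a e' else 0 :=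
    unit_mul_unit hd₀ hs₀ hirr₁
  set π : Module.End R L := E₀ i₀ i₀ with hπdef
  have hππ : π * π = π := by rw [hEE, if_pos rfl]
  have hρcomm : ∀ a b : G, ρ a * ρ b = ρ (a * b) := fun a b => (map_mul ρ a b).symm
  set N := Subgroup.normalizer ((P : Subgroup G) : Set G)
  have hπN : ∀ i, ρ (g ^ i) * π = π * ρ (g ^ i) := by
    intro i
    simp only [π, E₀, unit, mul_smul_comm, smul_mul_assoc, Finset.mul_sum, Finset.sum_mul]
    refine congrArg (s₀ • ·) ?_
    refine Finset.sum_congr rfl fun k _ => ?_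
    show _ • (ρ (g ^ i) * ρ (k : G)) = _ • (ρ (k : G) * ρ (g ^ i))
    rw [hρcomm, hρcomm, ((hKg k k.2).pow_left i).eq]
  have hkT : ∀ (a : T) (k : K), ((a : G) * k * (a : G)⁻¹) ∈ K := fun a k => hKn _ (hTN a.2) k k.2
  have hconjE : ∀ (a : T) (x y : Fin d₀), ρ a * E₀ x y =
      ∑ w, ∑ z, (V a w x * V a⁻¹ y z) • (E₀ w z * ρ a) := by
    intro a x y
    simp only [E₀, unit, mul_smul_comm, smul_mul_assoc, Finset.mul_sum, Finset.sum_mul,
      smul_comm _ s₀, ← Finset.smul_sum]
    refine congrArg (s₀ • ·) ?_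
    simp only [Finset.smul_sum, smul_smul]
    rw [Finset.sum_congr rfl fun w _ => Finset.sum_comm, Finset.sum_comm]
    refine Fintype.sum_bijective (fun k : K => (⟨(a : G) * k * (a : G)⁻¹, hkT a k⟩ : K)) ?_ _ _
      fun k => ?_
    · exact Finite.injective_iff_bijective.1 fun k k' h => Subtype.ext
        (mul_left_cancel (mul_right_cancel (congrArg Subtype.val h)))
    · show _ • (ρ (a : G) * ρ (k : G)) = ∑ w, ∑ z, _ • (ρ _ * ρ (a : G))
      simp only [hρcomm, inv_mul_cancel_right, Subgroup.coe_subtype, ← Finset.sum_smul]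
      refine congrArg (· • _) ?_
      set k' : K := ⟨(a : G) * k * (a : G)⁻¹, hkT a k⟩
      have : VK k⁻¹ = V a⁻¹ * VK k'⁻¹ * V a := by
        simp only [VK, MonoidHom.comp_apply, ← map_mul]
        congr 1
        exact Subtype.ext (by simp [k', mul_assoc])
      rw [this, Matrix.mul_apply]
      simp only [Matrix.mul_apply, Finset.sum_mul]
      exact Finset.sum_congr rfl fun w _ => Finset.sum_congr rfl fun z _ => by ring
  set Wd : Fin d₀ → T → Module.End R L := fun δ a => ∑ z, V a⁻¹ δ z • (E₀ i₀ z * ρ a)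
  have hVV : ∀ (a : T) (x y : Fin d₀), ∑ c, V a⁻¹ x c * V a c y = if x = y then 1 else 0 := by
    intro a x y
    rw [← Matrix.mul_apply, ← map_mul, inv_mul_cancel, map_one, Matrix.one_apply]
  have hWE : ∀ (a : T) δ, Wd i₀ a * E₀ i₀ δ = Wd δ a := by
    intro a δ
    simp only [Wd, Finset.sum_mul, smul_mul_assoc, mul_assoc, hconjE a i₀ δ, Finset.mul_sum,
      mul_smul_comm, ← mul_assoc (E₀ i₀ _) (E₀ _ _), hEE, ite_mul, zero_mul, smul_ite, smul_zero,
      Finset.smul_sum, smul_smul]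
    rw [Finset.sum_comm]
    simp only [Finset.sum_comm (γ := Fin d₀) (f := fun z w => ite _ _ _), Finset.sum_ite_eq,
      Finset.sum_ite_eq', Finset.mem_univ, if_true, ← mul_assoc]
    rw [Finset.sum_comm]
    refine Finset.sum_congr rfl fun z _ => ?_
    rw [← Finset.sum_smul, ← Finset.sum_mul, hVV, if_pos rfl, one_mul]
  have hEW : ∀ (a : T) x, E₀ x i₀ * Wd i₀ a = ∑ z, V a⁻¹ i₀ z • (E₀ x z * ρ a) := by
    intro a x
    simp only [Wd, Finset.mul_sum, mul_smul_comm, ← mul_assoc, hEE, if_true]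
  have hEρ : ∀ (a : T) b, E₀ i₀ b * ρ a = ∑ δ, V a b δ • Wd δ a := by
    intro a b
    simp only [Wd, Finset.smul_sum, smul_smul]
    rw [Finset.sum_comm]
    have h' : ∀ z, (∑ δ, V a b δ * V a⁻¹ δ z) = if b = z then 1 else 0 := fun z => by
      rw [← Matrix.mul_apply, ← map_mul, mul_inv_cancel, map_one, Matrix.one_apply]
    simp only [← Finset.sum_smul, h', ite_smul, one_smul, zero_smul, Finset.sum_ite_eq,
      Finset.mem_univ, if_true]
  have hρE : ∀ (a : T) b, ρ a * E₀ b i₀ = ∑ x, V a x b • (E₀ x i₀ * Wd i₀ a) := by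
    intro a b
    simp only [hEW, hconjE a b i₀, Finset.smul_sum, smul_smul]
  set W : T → Module.End R L := fun a => Wd i₀ a
  have hWπ : ∀ a, W a * π = W a := fun a => hWE a i₀
  have hπW : ∀ a, π * W a = W a := fun a => hEW a i₀
  have hWmul : ∀ a b, W (a * b) = W a * W b := by
    intro a b
    show Wd i₀ (a * b) = Wd i₀ a * Wd i₀ b
    conv_rhs => arg 2; simp only [Wd]
    simp only [Finset.mul_sum, mul_smul_comm, ← mul_assoc, hWE]
    simp only [Wd, Finset.sum_mul, smul_mul_assoc, mul_assoc, hρcomm, Finset.smul_sum, smul_smul,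
      mul_inv_rev, map_mul V b⁻¹ a⁻¹, Matrix.mul_apply, Finset.sum_smul, Subgroup.coe_mul]
    exact Finset.sum_comm
  have hWK : ∀ (k : G) (hk : k ∈ K), W ⟨k, hKT hk⟩ = π := by
    intro k hk
    show (∑ z, V (⟨k, hKT hk⟩ : T)⁻¹ i₀ z • (E₀ i₀ z * ρ k)) = _
    have h1 : ∀ z, E₀ i₀ z * ρ k = ∑ w, V ⟨k, hKT hk⟩ z w • E₀ i₀ w := by
      intro z
      simp only [E₀, unit, smul_mul_assoc, Finset.sum_mul, smul_comm _ s₀, ← Finset.smul_sum]
      refine congrArg (s₀ • ·) ?_
      simp only [Finset.smul_sum, smul_smul]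
      rw [Finset.sum_comm]
      refine Fintype.sum_equiv (Equiv.mulRight (⟨k, hk⟩ : K)) _ _ fun j => ?_
      show _ • (ρ (j : G) * ρ k) = ∑ w, _ • ρ ((j : G) * k)
      rw [hρcomm, ← Finset.sum_smul]
      refine congrArg (· • _) ?_
      have : VK j⁻¹ = VK ⟨k, hk⟩ * VK (j * ⟨k, hk⟩)⁻¹ := by
        rw [← map_mul]; congr 1; group
      rw [this, Matrix.mul_apply]
      exact Finset.sum_congr rfl fun w _ => rfl
    simp only [h1, Finset.smul_sum, smul_smul]
    rw [Finset.sum_comm]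
    simp only [← Finset.sum_smul, hVV, ite_smul, one_smul, zero_smul, Finset.sum_ite_eq,
      Finset.mem_univ, if_true]
    rfl
  have hWg : ∀ i, W ((⟨g, hgT⟩ : T) ^ i) = π * ρ (g ^ i) := by
    intro i
    simp only [W, Wd, ← inv_pow, map_pow, show V (⟨g, hgT⟩ : T)⁻¹ = 1 by
      rw [← one_mul (V _), ← hVg, ← map_mul, mul_inv_cancel, map_one, hVg],
      one_pow, Matrix.one_apply, ite_smul, one_smul, zero_smul, Finset.sum_ite_eq,
      Finset.mem_univ, if_true, SubmonoidClass.coe_pow, hπdef]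
  haveI : Module.Free R (LinearMap.range π) :=
    Module.Free.of_basis (Submodule.basisOfPid (Module.Free.chooseBasis R L) _).2
  haveI : Module.Finite R (LinearMap.range π) :=
    Module.Finite.of_basis (Submodule.basisOfPid (Module.Free.chooseBasis R L) _).2
  let L₁ := LinearMap.range π
  have hfix : ∀ y : L₁, π (y : L) = y := by
    rintro ⟨_, w, rfl⟩
    exact congrArg (fun f : Module.End R L => f w) hππ
  let cod : L →ₗ[R] L₁ := π.rangeRestrict
  have hcs : ∀ y : L₁, cod (y : L) = y := fun y => Subtype.ext (hfix y)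
  have hsc : ∀ x : L, (cod x : L) = π x := fun x => rfl
  let f₁ : T → Module.End R L₁ := fun a => cod ∘ₗ W a ∘ₗ L₁.subtype
  have hf₁ : ∀ (a : T) (y : L₁), (f₁ a y : L) = W a y := fun a y => by
    show π (W a y) = _
    rw [← Module.End.mul_apply, hπW]
  have hgN : g ∈ N := Subgroup.le_normalizer hg
  have hf₁mul : ∀ a b, f₁ (a * b) = f₁ a * f₁ b := fun a b =>
    LinearMap.ext fun y => Subtype.ext (by
      rw [Module.End.mul_apply, hf₁, hf₁, hf₁, hWmul, Module.End.mul_apply])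
  have hf₁K : ∀ (k : G) (hk : k ∈ K), f₁ ⟨k, hKT hk⟩ = 1 := fun k hk => LinearMap.ext fun y =>
    Subtype.ext (by rw [hf₁, hWK k hk, hfix]; rfl)
  have hf₁one : f₁ 1 = 1 := hf₁K 1 (one_mem K)
  have hf₁pow : ∀ a (i : ℕ), f₁ (a ^ i) = f₁ a ^ i := fun a i => by
    induction i with
    | zero => rw [pow_zero, pow_zero, hf₁one]
    | succ i ih => rw [pow_succ, pow_succ, hf₁mul, ih]
  set gT : T := ⟨g, hgT⟩
  set tH : T := ⟨h, hh⟩
  have hfg : ∀ (i : ℕ) (y : L₁), (f₁ (gT ^ i) y : L) = ρ (g ^ i) y := fun i y => by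
    rw [hf₁, hWg, ← hπN i, Module.End.mul_apply, hfix]
  set γ := f₁ gT
  set fh := f₁ tH
  have hgp : g ^ p = 1 := by
    rw [← hP, ← Subgroup.coe_mk (P : Subgroup G) g hg, ← Subgroup.coe_pow, pow_card_eq_one',
      Subgroup.coe_one]
  have hγ : γ ^ p = 1 := by
    rw [← hf₁pow, show gT ^ p = 1 from Subtype.ext (by simpa [gT] using hgp), hf₁one]
  have hh1 : fh ^ e = 1 := by
    rw [← hf₁pow, show tH ^ e = ⟨h ^ e, hKT heK⟩ from Subtype.ext (by simp [tH])]
    exact hf₁K _ heK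
  have hconj : fh * γ = γ ^ u * fh := by
    rw [← hf₁pow, ← hf₁mul, ← hf₁mul]
    refine congrArg f₁ ?_
    exact Subtype.ext (by simp [gT, tH, ← hhg])
  obtain ⟨d, hd⟩ := hem
  set ω : R := ⟨η ^ d, mem_cycLocal hM _ (pow_mem (self_mem_cycAlg η) d)⟩
  have hω : IsPrimitiveRoot ω e :=
    IsPrimitiveRoot.of_map_of_injective (f := R.subtype)
      (hη.pow hm0 (by rw [hd, mul_comm])) Subtype.val_injective
  have heu : IsUnit ((e : ℕ) : R) := (localSub_isUnit_iff hM _ _ _).2 (by
    rw [show (((e : ℕ) : R) : ℂ) = (e : ℂ) from map_natCast R.subtype _]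
    exact fun h => hm (((ideal_natCast_iff hM _).1 h).trans (hd ▸ dvd_mul_right e d)))
  have hv' : ∀ i, 0 < i → i < p →
      LinearMap.trace R L₁ (γ ^ i) = ((n * v : ℤ) : R) := by
    intro i hi hip
    rw [← hf₁pow]
    refine Subtype.val_injective ?_
    have h1 : LinearMap.trace R L₁ (f₁ (gT ^ i)) = LinearMap.trace R L (ρ (g ^ i) * π) := by
      rw [show f₁ (gT ^ i) = cod ∘ₗ (W (gT ^ i) ∘ₗ L₁.subtype) from rfl,
        ← LinearMap.trace_comp_comm' (R := R) (M := L) (N := L₁) cod (W (gT ^ i) ∘ₗ L₁.subtype)]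
      show LinearMap.trace R L (W (gT ^ i) * π) = _
      rw [hWπ, hWg, hπN]
    rw [h1, hπdef]
    simp only [E₀, unit, mul_smul_comm, Finset.mul_sum, map_smul, map_sum, smul_eq_mul]
    show R.subtype (∑ k : K, s₀ * (VK k⁻¹ i₀ i₀ * LinearMap.trace R L (ρ (g ^ i) * ρ (k : G)))) =
      R.subtype ((n * v : ℤ) : R)
    rw [map_sum, map_intCast]
    have hterm : ∀ k : K, R.subtype (s₀ * (VK k⁻¹ i₀ i₀ *
        LinearMap.trace R L (ρ (g ^ i) * ρ (k : G)))) =
        (s₀ : ℂ) * n * ((∑ j, (θ j : G → ℂ) (g ^ i * k)) * cMat VK k⁻¹ i₀ i₀) := by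
      intro k
      rw [map_mul, map_mul, hρcomm, cMat_apply]
      show (s₀ : ℂ) * ((VK k⁻¹ i₀ i₀ : ℂ) * _) = _
      rw [show ((LinearMap.trace R L (ρ (g ^ i * k)) : R) : ℂ) = (n : ℂ) * _ from htr _]
      ring
    rw [Finset.sum_congr rfl fun k _ => hterm k, ← Finset.mul_sum]
    set f : K → ℂ := fun k => ∑ j, (θ j : G → ℂ) (g ^ i * ((k⁻¹ : K) : G))
    have hfc : Cfsg.IsClassFunction K f := fun x y => by
      refine Finset.sum_congr rfl fun j _ => ?_
      rw [← irr_isClassFunction (θ j) (g ^ i * ((x⁻¹ : K) : G)) (y : G)]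
      congr 1
      simp only [mul_inv_rev, inv_inv, Subgroup.coe_mul, Subgroup.coe_inv]
      rw [← mul_assoc (y : G) (g ^ i), ← ((hKg y y.2).pow_left i).eq]
      group
    have h2 := congrArg (fun A : Matrix (Fin d₀) (Fin d₀) ℂ => A i₀ i₀)
      (sum_classFun_smul hd₀ (cMat VK) (by simpa only [cMat_trace] using hirr₁) hfc)
    simp only [Matrix.sum_apply, Matrix.smul_apply, Matrix.one_apply, if_true, smul_eq_mul,
      mul_one] at h2
    rw [Fintype.sum_equiv (Equiv.inv K) _ (fun k => f k * cMat VK k i₀ i₀)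
      (fun k => by simp [f]), h2]
    have h3 : ∑ k : K, f k * (cMat VK k).trace = (Nat.card K : ℂ) * v := by
      rw [← hv i hi hip]
      refine Fintype.sum_equiv (Equiv.inv K) _ _ fun k => ?_
      simp only [f, Equiv.inv_apply, cMat_trace, inv_inv]
      congr 1
      exact hVtr k
    rw [h3, mul_div_assoc', show (s₀ : ℂ) * n * ((Nat.card K : ℂ) * v) =
      ((s₀ : ℂ) * Nat.card K) * (n * v) by ring, hs₀,
      mul_div_cancel_left₀ _ (Nat.cast_ne_zero.2 hd₀.ne')]
    push_cast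
    rfl
  obtain ⟨s, t, hst, hφs, hφt⟩ :=
    CycLattice.exists_eigen_pairs (R := R) (L := L₁) hp hmax hγ he hh1 hu hconj hω heu hv'
  have hstZ : (s : ℤ) = t + n * v := by
    have h1 := congrArg R.subtype hst
    rw [map_natCast, map_add, map_natCast, map_intCast] at h1
    exact_mod_cast h1
  -- the transported endomorphism
  have hlift : ∀ φ : Module.End R L₁, φ * γ = γ * φ → φ * fh = fh * φ →
      ∃ Φ : Module.End R L, (∀ a, Φ * ρ a = ρ a * Φ) ∧
        ∀ (U : Submodule R L) (x : L₁), (∀ ψ : Module.End R L,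
          ∑ i ∈ Finset.range p, ρ (g ^ i) (ψ (ρ (g ^ i)⁻¹ x)) ∈ U) →
            Φ x - (φ x : L) ∈ U := by
    intro φ hφg hφh
    set φ₀ : Module.End R L := L₁.subtype ∘ₗ φ ∘ₗ cod
    have hφW : ∀ a : T, W a * φ₀ = φ₀ * W a := by
      intro a
      obtain ⟨j, i, k, hk, hak⟩ := hgen a a.2
      have ha' : a = tH ^ j * (gT ^ i * ⟨k, hKT hk⟩) := Subtype.ext (by simp [tH, gT, hak])
      have hφa : φ * f₁ a = f₁ a * φ := by
        rw [ha', hf₁mul, hf₁mul, hf₁K k hk, mul_one, hf₁pow, hf₁pow]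
        exact ((show Commute φ fh from hφh).pow_right j).mul_right
          ((show Commute φ γ from hφg).pow_right i)
      refine LinearMap.ext fun x => ?_
      have h1 : cod (W a x) = f₁ a (cod x) := Subtype.ext (by
        rw [hf₁, hsc, hsc, ← Module.End.mul_apply, hπW, ← Module.End.mul_apply, hWπ])
      show W a (φ (cod x) : L) = (φ (cod (W a x)) : L)
      rw [h1, ← hf₁, ← Module.End.mul_apply, ← hφa, Module.End.mul_apply]
    set φ' : Module.End R L := ∑ b, E₀ b i₀ * φ₀ * E₀ i₀ b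
    have hφ' : ∀ a : T, φ' * ρ a = ρ a * φ' := by
      intro a
      simp only [φ', Finset.mul_sum, Finset.sum_mul]
      have hl : ∀ b, E₀ b i₀ * φ₀ * E₀ i₀ b * ρ a =
          ∑ δ, V a b δ • (E₀ b i₀ * φ₀ * W a * E₀ i₀ δ) := fun b => by
        rw [mul_assoc _ (E₀ i₀ b) (ρ a), hEρ, Finset.mul_sum]
        refine Finset.sum_congr rfl fun δ _ => ?_
        rw [mul_smul_comm, ← hWE, ← mul_assoc]
      have hr' : ∀ b, ρ a * (E₀ b i₀ * φ₀ * E₀ i₀ b) =
          ∑ x, V a x b • (E₀ x i₀ * φ₀ * W a * E₀ i₀ b) := fun b => by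
        rw [← mul_assoc, ← mul_assoc, hρE, Finset.sum_mul, Finset.sum_mul]
        refine Finset.sum_congr rfl fun x _ => ?_
        rw [smul_mul_assoc, smul_mul_assoc, mul_assoc (E₀ x i₀) (Wd i₀ a), hφW, ← mul_assoc]
      rw [Finset.sum_congr rfl fun b _ => hl b, Finset.sum_congr rfl fun b _ => hr' b,
        Finset.sum_comm]
    have hwd : ∀ a b : G, (QuotientGroup.leftRel T) a b →
        ρ a * φ' * ρ a⁻¹ = ρ b * φ' * ρ b⁻¹ := by
      intro a b hab
      rw [QuotientGroup.leftRel_apply] at hab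
      have hcc : ρ (a⁻¹ * b) * ρ (a⁻¹ * b)⁻¹ = 1 := by rw [hρcomm, mul_inv_cancel, map_one]
      symm
      calc ρ b * φ' * ρ b⁻¹
          = ρ (a * (a⁻¹ * b)) * φ' * ρ ((a⁻¹ * b)⁻¹ * a⁻¹) := by
            rw [mul_inv_cancel_left, show (a⁻¹ * b)⁻¹ * a⁻¹ = b⁻¹ by group]
        _ = ρ a * (ρ (a⁻¹ * b) * φ') * (ρ (a⁻¹ * b)⁻¹ * ρ a⁻¹) := by
            rw [map_mul ρ a (a⁻¹ * b), map_mul ρ (a⁻¹ * b)⁻¹ a⁻¹, mul_assoc (ρ a)]
        _ = ρ a * φ' * (ρ (a⁻¹ * b) * ρ (a⁻¹ * b)⁻¹) * ρ a⁻¹ := by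
            rw [← hφ' ⟨_, hab⟩]; simp only [mul_assoc]
        _ = ρ a * φ' * ρ a⁻¹ := by rw [hcc, mul_one]
    -- the conjugates outside the stabiliser kill `L₁`
    have hkill : ∀ b (hb : b ∈ N), b ∉ T → φ' * ρ b⁻¹ * π = 0 := by
      intro b hb hbT
      set ε : Module.End R L := ∑ x, E₀ x x
      have hcε : ∀ c, E₀ i₀ c * ε = E₀ i₀ c := fun c => by
        simp only [ε, Finset.mul_sum, hEE, Finset.sum_ite_eq, Finset.mem_univ, if_true]
      have hε : ε = s₀ • ∑ k : K, (VK k⁻¹).trace • ρ (k : G) := by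
        simp only [ε, E₀, unit, ← Finset.smul_sum, Matrix.trace, Matrix.diag, Finset.sum_smul]
        rw [Finset.sum_comm]
        rfl
      have hz : ε * ρ b⁻¹ * π = 0 := by
        have h1 : ρ b * (ε * ρ b⁻¹ * π) = 0 := by
          rw [← mul_assoc, ← mul_assoc, hε, mul_smul_comm, smul_mul_assoc, smul_mul_assoc,
            Finset.mul_sum, Finset.sum_mul, Finset.sum_mul]
          rw [Finset.sum_congr rfl fun k _ => show ρ b * ((VK k⁻¹).trace • ρ (k : G)) * ρ b⁻¹ * π =
            ∑ x, ((VK k⁻¹).trace * VK ⟨b * k * b⁻¹, hKn b hb k k.2⟩ x i₀) • E₀ x i₀ by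
            rw [mul_smul_comm, smul_mul_assoc, hρcomm, hρcomm, smul_mul_assoc,
              show ρ (b * (k : G) * b⁻¹) = ρK ⟨b * k * b⁻¹, hKn b hb k k.2⟩ from rfl,
              show ρK ⟨b * k * b⁻¹, hKn b hb k k.2⟩ * π =
                ∑ x, VK ⟨b * k * b⁻¹, hKn b hb k k.2⟩ x i₀ • E₀ x i₀ from hρE₀ _ _ _,
              Finset.smul_sum]
            simp only [smul_smul]]
          rw [Finset.sum_comm, Finset.smul_sum, Finset.sum_eq_zero]
          intro x _
          rw [← Finset.sum_smul]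
          suffices hs : (∑ k : K, (VK k⁻¹).trace * VK ⟨b * k * b⁻¹, hKn b hb k k.2⟩ x i₀ : R) = 0 by
            rw [hs, zero_smul, smul_zero]
          refine Subtype.ext ?_
          set f : K → ℂ := fun k => φ₁ (⟨b⁻¹ * (k : G) * b, by
            simpa using hKn b⁻¹ (inv_mem hb) k k.2⟩ : K)⁻¹
          have hfc : Cfsg.IsClassFunction K f := fun u w => by
            set w' : K := ⟨b⁻¹ * (w : G) * b, by simpa using hKn b⁻¹ (inv_mem hb) w w.2⟩
            set u' : K := ⟨b⁻¹ * (u : G) * b, by simpa using hKn b⁻¹ (inv_mem hb) u u.2⟩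
            show φ₁ _ = φ₁ u'⁻¹
            rw [← char_isClassFunction (isCharacter_of_isIrr hφ₁) u'⁻¹ w']
            exact congrArg φ₁ (Subtype.ext (by simp [u', w', mul_assoc]))
          let σb : K ≃ K := Equiv.ofBijective (fun k => ⟨b * k * b⁻¹, hKn b hb k k.2⟩)
            (Finite.injective_iff_bijective.1 fun k k' h => Subtype.ext
              (mul_left_cancel (mul_right_cancel (congrArg Subtype.val h))))
          have h2 := congrArg (fun A : Matrix (Fin d₀) (Fin d₀) ℂ => A x i₀)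
            (sum_classFun_smul hd₀ (cMat VK) (by simpa only [cMat_trace] using hirr₁) hfc)
          have hfσ : ∀ k : K, f (σb k) = φ₁ k⁻¹ := fun k =>
            congrArg φ₁ (congrArg (·⁻¹) (Subtype.ext (by simp [σb, mul_assoc])))
          rw [← σb.sum_comp (fun k => f k * (cMat VK k).trace), Finset.sum_congr rfl
            fun k _ => show f (σb k) * (cMat VK (σb k)).trace = φ₁ k⁻¹ * φ₁ (σb k) by
              rw [hfσ, cMat_trace]; exact congrArg _ (hVtr _),
            show ∑ k : K, φ₁ k⁻¹ * φ₁ (σb k) = 0 from hmove b hb hbT, zero_div, zero_smul] at h2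
          simp only [Matrix.sum_apply, Matrix.smul_apply, Matrix.zero_apply, smul_eq_mul] at h2
          rw [← σb.sum_comp (fun k => f k * cMat VK k x i₀)] at h2
          show R.subtype _ = 0
          rw [map_sum, ← h2]
          refine Finset.sum_congr rfl fun k _ => ?_
          rw [hfσ, map_mul]
          congr 1
          exact hVtr _
        have h3 := congrArg (ρ b⁻¹ * ·) h1
        simpa only [← mul_assoc, hρcomm, inv_mul_cancel, map_one, one_mul, mul_zero] using h3
      simp only [φ', Finset.sum_mul]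
      refine Finset.sum_eq_zero fun c _ => ?_
      rw [mul_assoc _ (E₀ i₀ c), mul_assoc _ (E₀ i₀ c * _) π, ← hcε c, mul_assoc (E₀ i₀ c) ε,
        mul_assoc (E₀ i₀ c) (ε * _) π, hz, mul_zero, mul_zero]
    let F : G ⧸ T → Module.End R L := Quotient.lift (fun a => ρ a * φ' * ρ a⁻¹) hwd
    haveI := Fintype.ofFinite (G ⧸ T)
    have hF : ∀ (a : G) (q : G ⧸ T), F (a • q) = ρ a * F q * ρ a⁻¹ := by
      intro a q
      obtain ⟨b, rfl⟩ := QuotientGroup.mk_surjective q
      show ρ (a * b) * φ' * ρ (a * b)⁻¹ = ρ a * (ρ b * φ' * ρ b⁻¹) * ρ a⁻¹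
      rw [mul_inv_rev, map_mul, map_mul]
      simp only [mul_assoc]
    refine ⟨∑ q, F q, fun a => ?_, fun U x hU => ?_⟩
    · rw [Finset.sum_mul, Finset.mul_sum]
      refine (Fintype.sum_equiv (MulAction.toPerm a) _ _ fun q => ?_).symm
      rw [MulAction.toPerm_apply, hF, mul_assoc _ (ρ a⁻¹), hρcomm, inv_mul_cancel, map_one, mul_one]
    · have h1 : (φ x : L) = F ((1 : G) : G ⧸ T) x := by
        show _ = (ρ 1 * φ' * ρ 1⁻¹) (x : L)
        rw [inv_one, map_one, one_mul, mul_one]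
        conv_rhs => rw [← hfix x, ← Module.End.mul_apply]
        simp only [φ', Finset.sum_mul, mul_assoc, hπdef, hEE]
        rw [Finset.sum_eq_single i₀ (fun c _ hc => by simp [hc]) (by simp), if_pos rfl,
          ← hπdef, Module.End.mul_apply, Module.End.mul_apply, hfix]
        show _ = π (φ (cod (x : L)) : L)
        rw [hcs, hfix]
      let toN : G ⧸ T → G ⧸ N := fun q => Quotient.liftOn' q (fun a => (a : G ⧸ N))
        fun a b hab => QuotientGroup.eq.2 (hTN (QuotientGroup.leftRel_apply.1 hab))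
      have htoN : ∀ (a : G) q, toN (a • q) = a • toN q := fun a q => by
        obtain ⟨b, rfl⟩ := QuotientGroup.mk_surjective q
        rfl
      set S₁ := Finset.univ.filter fun q => toN q ≠ ((1 : G) : G ⧸ N)
      have hrest : ∀ q ∈ Finset.univ.erase ((1 : G) : G ⧸ T), q ∉ S₁ → F q (x : L) = 0 := by
        intro q hq hq'
        obtain ⟨b, rfl⟩ := QuotientGroup.mk_surjective q
        have hbN : b ∈ N := by
          simp only [S₁, Finset.mem_filter, Finset.mem_univ, true_and, not_not] at hq'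
          have := QuotientGroup.eq.1 (show (b : G ⧸ N) = ((1 : G) : G ⧸ N) from hq')
          simpa using inv_mem this
        have hbT : b ∉ T := fun hb => (Finset.mem_erase.1 hq).1
          (QuotientGroup.eq.2 (by simpa using inv_mem hb))
        show (ρ b * φ' * ρ b⁻¹) (x : L) = 0
        rw [← hfix x, ← Module.End.mul_apply, mul_assoc (ρ b), mul_assoc (ρ b), hkill b hbN hbT,
          mul_zero, LinearMap.zero_apply]
      rw [LinearMap.sum_apply, h1,
        ← Finset.sum_erase_add Finset.univ _ (Finset.mem_univ ((1 : G) : G ⧸ T)),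
        add_sub_cancel_right, ← Finset.sum_subset (s₁ := S₁) ?_ hrest]
      · refine sum_mem_of_orbits hp (MulAction.toPerm g) ?_ _ U.toAddSubgroup (fun q => ?_) _ ?_ ?_
        · ext q
          rw [show MulAction.toPerm g = MulAction.toPermHom G (G ⧸ T) g from rfl, ← map_pow, hgp,
            map_one]
        · rw [Finset.sum_congr rfl fun i _ => show F ((MulAction.toPerm g ^ i) q) (x : L) =
            ρ (g ^ i) ((F q) (ρ (g ^ i)⁻¹ x)) by
              rw [show MulAction.toPerm g = MulAction.toPermHom G (G ⧸ T) g from rfl, ← map_pow]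
              show F (g ^ i • q) _ = _
              rw [hF]; rfl]
          exact hU (F q)
        · intro q hq
          simp only [S₁, Finset.mem_filter, Finset.mem_univ, true_and, MulAction.toPerm_apply,
            htoN] at hq ⊢
          intro e'
          refine hq ((MulAction.injective g) (e'.trans ?_))
          show _ = ((g * 1 : G) : G ⧸ N)
          exact QuotientGroup.eq.2 (by simpa using hgN)
        · intro q hq e'
          simp only [S₁, Finset.mem_filter, Finset.mem_univ, true_and] at hq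
          rw [MulAction.toPerm_apply] at e'
          exact hq (smul_coset_ne P hP hg hg1 (toN q) (by rw [← htoN, e']))
      · intro q hq
        refine Finset.mem_erase.2 ⟨fun e' => ?_, Finset.mem_univ _⟩
        simp only [S₁, Finset.mem_filter, Finset.mem_univ, true_and] at hq
        exact hq (by rw [e']; rfl)
  -- eigenvalues modulo `p` lift to the representing matrix
  obtain ⟨χ₁, n', ρ₁, hρ₁, hχ₁⟩ : ∃ χ : Cfsg.IrrCharacter G, ∃ (n' : ℕ)
      (ρ₁ : Representation ℂ G (Fin n' → ℂ)), ρ₁.IsIrreducible ∧ ρ₁.character = (θ j₀ : G → ℂ) := by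
    obtain ⟨n', ρ₁, h1, h2⟩ := (θ j₀).2
    exact ⟨θ j₀, n', ρ₁, h1, h2⟩
  have hirr : Cfsg.IsIrrCharacter G ρ₁.character := by rw [hχ₁]; exact (θ j₀).2
  have hn' : n' = n := by
    apply Nat.cast_injective (R := ℂ)
    rw [← hdeg j₀, ← hχ₁, Representation.char_one, Module.finrank_fin_fun]
  have hcore : ∀ Φ : Module.End R L, (∀ a, Φ * ρ a = ρ a * Φ) →
      ∃ roots : Finset ℂ, roots.card ≤ n ∧ ∀ (U : Submodule R L), (∀ y ∈ U, Φ y ∈ U) →
        ∀ (x : L) (c : R), x ∉ U → Φ x - c • x ∈ U → ∃ μ ∈ roots, Cong M μ (c : ℂ) := by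
    intro Φ hΦ
    obtain ⟨z, hz⟩ := (Φ ⟨EΘ, Lattice.self_mem_lat EΘ⟩).2
    have hΦz : ∀ x : L, (Φ x).1 = x.1 * z := by
      rintro ⟨_, w, rfl⟩
      have hlin : ∀ w, Φ * act w = act w * Φ := by
        intro w
        induction w using MonoidAlgebra.induction_on with
        | of a => rw [MonoidAlgebra.of_apply, ← hρ]; exact hΦ a
        | add a b ha hb => rw [map_add, mul_add, add_mul, ha, hb]
        | smul c a ha => rw [map_smul, mul_smul_comm, smul_mul_assoc, ha]
      have h1 := congrArg (fun f : Module.End R L => (f ⟨EΘ, Lattice.self_mem_lat EΘ⟩).1) (hlin w)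
      simp only [Module.End.mul_apply] at h1
      show (Φ ⟨w * EΘ, _⟩).1 = w * EΘ * z
      rw [mul_assoc, hEΘc z]
      refine Eq.trans h1 ?_
      show w * (Φ ⟨EΘ, _⟩).1 = _
      rw [← hz]
      rfl
    set zS : MonoidAlgebra S G := MonoidAlgebra.mapRingHom G ι z
    have hzS : ∀ σ : S →+* ℂ, (∀ s : S, (s : ℂ) ∈ R → σ s = s) →
        Lattice.push σ zS = Lattice.push R.subtype z := fun σ hσ => el_ext fun a => by
      rw [Lattice.coeff_push, Lattice.coeff_push]
      have : zS.coeff a = ι (z.coeff a) := by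
        show (MonoidAlgebra.mapRingHom G ι z).coeff a = _
        exact MonoidAlgebra.coeff_map ι.toAddMonoidHom z ▸ rfl
      rw [this]
      exact hσ _ (z.coeff a).2
    let Φ₁ : Module.End S (Lattice.lat E₁) := (LinearMap.mulRight S zS).restrict fun y hy => by
      obtain ⟨w, rfl⟩ := hy
      refine ⟨w * zS, ?_⟩
      show w * zS * E₁ = w * E₁ * zS
      rw [mul_assoc, mul_assoc, hE₁c]
    have hΦ₁ : ∀ y : Lattice.lat E₁, (Φ₁ y).1 = y.1 * zS := fun y => rfl
    set B := ρ₁.asAlgebraHom (Lattice.push R.subtype z)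
    refine ⟨B.charpoly.roots.toFinset, ?_, ?_⟩
    · refine (Multiset.toFinset_card_le _).trans ((Polynomial.card_roots' _).trans ?_)
      rw [LinearMap.charpoly_natDegree, Module.finrank_fin_fun, hn']
    intro U hU x c hxU hxc
    -- the characteristic polynomial vanishes at `c` modulo `p`
    set Q := Φ.charpoly
    have hpow : ∀ i : ℕ, (Φ ^ i) x - c ^ i • x ∈ U := by
      intro i
      induction i with
      | zero => simp
      | succ i ih =>
        rw [pow_succ', Module.End.mul_apply, pow_succ, mul_smul]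
        rw [show Φ ((Φ ^ i) x) - c ^ i • c • x = Φ ((Φ ^ i) x - c ^ i • x) + c ^ i • (Φ x - c • x) by
          rw [map_sub, map_smul, smul_sub]; abel]
        exact add_mem (hU _ ih) (U.smul_mem _ hxc)
    have hQc : ¬ IsUnit (Q.eval c) := by
      intro hunit
      refine hxU ((Submodule.smul_mem_iff_of_isUnit _ hunit).1 ?_)
      have h0 : Q.eval c • x = -(aeval Φ Q x - Q.eval c • x) := by
        rw [LinearMap.aeval_self_charpoly, LinearMap.zero_apply, zero_sub, neg_neg]
      rw [h0, Polynomial.aeval_eq_sum_range, Polynomial.eval_eq_sum_range, LinearMap.sum_apply,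
        Finset.sum_smul, ← Finset.sum_sub_distrib]
      refine neg_mem (sum_mem fun i _ => ?_)
      rw [LinearMap.smul_apply, mul_smul, ← smul_sub]
      exact U.smul_mem _ (hpow i)
    set Qc := Q.map R.subtype
    have hQm : Q.Monic := LinearMap.charpoly_monic Φ
    have hQI : Cfsg.MemLocalIdeal M (Qc.eval (c : ℂ)) := by
      rw [show (c : ℂ) = R.subtype c from rfl, Polynomial.eval_map_apply]
      by_contra h
      exact hQc ((localSub_isUnit_iff hM _ _ _).2 h)
    obtain ⟨lam, hlam, hlc⟩ := exists_root_cong hM (hQm.map _)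
      (fun i => by rw [Polynomial.coeff_map]; exact localSub_ring hM _ _ _)
      (localSub_ring hM _ _ c) hQI
    obtain ⟨y, hy0, hyz, hyE⟩ := Lattice.exists_eigvec EΘ R.subtype hq0 hEΘ hΦz hlam
    -- a component
    obtain ⟨j, hj⟩ : ∃ j, y * E j ≠ 0 := by
      by_contra hcon
      push Not at hcon
      rw [hpΘ, Finset.mul_sum, Finset.sum_eq_zero fun j _ => hcon j] at hyE
      exact (smul_ne_zero (Nat.cast_ne_zero.2 hq0) hy0) hyE.symm
    obtain ⟨σ, hσR, hσc, hσθ⟩ := hσ j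
    have hσE : Lattice.push σ E₁ = E j := el_ext fun a => by
      rw [Lattice.coeff_push, hEcoef]; exact hσθ a⁻¹
    have hroot : (Φ₁.charpoly.map σ).eval lam = 0 :=
      Lattice.eval_charpoly_eq_zero E₁ σ hΦ₁ hj
        (by rw [hzS σ hσR, mul_assoc, hEc, ← mul_assoc, hyz, smul_mul_assoc])
        ⟨y, by rw [hσE]⟩
    set Q₁ := Φ₁.charpoly.map S.subtype
    have hlr : Cfsg.MemLocalRing M lam := ring_of_cong hM hlc (localSub_ring hM _ _ c)
    have hQ₁ : Cfsg.MemLocalIdeal M (Q₁.eval lam) := by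
      have hnd : Φ₁.charpoly.natDegree = (Φ₁.charpoly.map σ).natDegree :=
        ((LinearMap.charpoly_monic Φ₁).natDegree_map σ).symm
      have h1 : Q₁.eval lam = ∑ i ∈ Finset.range (Φ₁.charpoly.natDegree + 1),
          ((Φ₁.charpoly.coeff i : ℂ) - σ (Φ₁.charpoly.coeff i)) * lam ^ i := by
        simp only [sub_mul, Finset.sum_sub_distrib]
        have h2 := Polynomial.eval_eq_sum_range (p := Φ₁.charpoly.map σ) lam
        rw [hroot, ← hnd] at h2
        simp only [Polynomial.coeff_map] at h2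
        rw [← h2, sub_zero, Polynomial.eval_eq_sum_range,
          (LinearMap.charpoly_monic Φ₁).natDegree_map]
        exact Finset.sum_congr rfl fun i _ => by rw [Polynomial.coeff_map]; rfl
      rw [h1]
      exact ideal_sum hM fun i _ => ideal_mul_right hM (cong_symm hM (hσc _)) (ring_pow hM hlr i)
    obtain ⟨μ, hμ, hμl⟩ := exists_root_cong hM ((LinearMap.charpoly_monic Φ₁).map S.subtype)
      (fun i => by rw [Polynomial.coeff_map]; exact localSub_ring hM _ _ _) hlr hQ₁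
    obtain ⟨y₁, hy₁0, hy₁z, hy₁E⟩ := Lattice.exists_eigvec E₁ S.subtype hq0 hE₁ hΦ₁ hμ
    refine ⟨μ, Multiset.mem_toFinset.2 (Lattice.mem_roots_rep ρ₁ hirr hy₁0 ?_ ?_), cong_trans hM hμl hlc⟩
    · have hcx : (⟨_, hirr⟩ : Cfsg.IrrCharacter G) = θ j₀ := Subtype.ext hχ₁
      rw [hcx]
      rw [hpE₁, hE, mul_smul_comm] at hy₁E
      exact smul_right_injective _ (Nat.cast_ne_zero.2 hq0) hy₁E
    · rw [← hzS S.subtype fun s _ => rfl]; exact hy₁z
  -- conclusion
  let η' : R := ⟨η, mem_cycLocal hM _ (self_mem_cycAlg η)⟩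
  have hfinal : ∀ (l : ℕ), n < l → (∀ c : Fin l → R, ∃ φ : Module.End R L₁,
      φ * γ = γ * φ ∧ φ * fh = fh * φ ∧ ∀ i, ∃ (x : L₁) (U : Submodule R L),
        (∀ ψ : Module.End R L, ∑ i ∈ Finset.range p, ρ (g ^ i) (ψ (ρ (g ^ i)⁻¹ x)) ∈ U) ∧
        (∀ Φ : Module.End R L, (∀ a, Φ * ρ a = ρ a * Φ) → ∀ y ∈ U, Φ y ∈ U) ∧
        (x : L) ∉ U ∧ φ x = c i • x) → False := by
    intro l hl hex
    obtain ⟨φ, hφg, hφh, hφx⟩ := hex fun i => η' ^ (i : ℕ)
    obtain ⟨Φ, hΦ, hΦU⟩ := hlift φ hφg hφh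
    obtain ⟨roots, hcard, hroots⟩ := hcore Φ hΦ
    choose x U hU1 hU2 hxU hxc using hφx
    have hmu : ∀ i : Fin (n + 1), ∃ μ ∈ roots, Cong M μ (η ^ (i : ℕ)) := by
      intro i
      set i' : Fin l := Fin.castLE hl i
      obtain ⟨μ, hμ, hμc⟩ := hroots (U i') (hU2 i' Φ hΦ) (x i') (η' ^ (i : ℕ)) (hxU i') (by
        have := hΦU (U i') (x i') (hU1 i')
        rw [hxc i'] at this
        exact this)
      exact ⟨μ, hμ, by simpa [η'] using hμc⟩
    choose μ hμ hμc using hmu
    have hμinj : Function.Injective μ := by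
      intro i i' heq
      by_contra hne
      wlog hlt : (i : ℕ) < (i' : ℕ) generalizing i i'
      · exact this heq.symm (Ne.symm hne) (by
          have : (i : ℕ) ≠ (i' : ℕ) := fun e => hne (Fin.ext e)
          omega)
      have h1 : Cong M (η ^ (i : ℕ)) (η ^ (i' : ℕ)) :=
        cong_trans hM (cong_symm hM (hμc i)) (heq ▸ hμc i')
      have hi'm : (i' : ℕ) < m := by have := i'.isLt; omega
      have hη0 : η ≠ 0 := hη.ne_zero hm0.ne'
      have h2 : Cong M (η ^ ((i' : ℕ) - i)) 1 := by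
        have h3 := cong_mul_left hM (ring_of_pow_eq_one hM hm0.ne'
          (show (η ^ (m - i)) ^ m = 1 by rw [← pow_mul, mul_comm, pow_mul, hηm, one_pow]))
          (cong_symm hM h1)
        rw [← pow_add, ← pow_add, show m - (i : ℕ) + (i' : ℕ) = m + ((i' : ℕ) - i) by omega,
          show m - (i : ℕ) + (i : ℕ) = m by omega, pow_add, hηm, one_mul] at h3
        exact h3
      have h4 := eq_one_of_cong_one hM hm
        (show (η ^ ((i' : ℕ) - i)) ^ m = 1 by rw [← pow_mul, mul_comm, pow_mul, hηm, one_pow]) h2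
      exact hη.pow_ne_one_of_pos_of_lt (by omega) (by omega) h4
    have := Finset.card_le_card_of_injOn μ (s := Finset.univ) (fun i _ => hμ i)
      fun i _ j _ h => hμinj h
    rw [Finset.card_univ, Fintype.card_fin] at this
    omega
  have hρinv : ∀ i, ρ (g ^ i)⁻¹ * ρ (g ^ i) = 1 := fun i => by
    rw [hρcomm, inv_mul_cancel, map_one]
  have hρpow : ∀ (i : ℕ) (x : L₁), ρ (g ^ i) x = ((γ ^ i) x : L) := fun i x => by
    rw [← hf₁pow, hfg]
  by_contra hcon
  rcases (lt_abs.1 (lt_of_not_ge hcon)) with hv1 | hv1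
  · refine hfinal s (by nlinarith [Int.natCast_nonneg t, hstZ, (show (1 : ℤ) ≤ n by omega)]) fun c => ?_
    obtain ⟨φ, h1, h2, h3⟩ := hφs c
    refine ⟨φ, h1, h2, fun i => ?_⟩
    obtain ⟨x, hxf, hxU, hxc⟩ := h3 i
    refine ⟨x, LinearMap.ker (CycLattice.nrm p (ρ g)) ⊔
      LinearMap.range ((p : R) • (1 : Module.End R L)), fun ψ => ?_, fun Φ hΦ y hy => ?_, ?_, hxc⟩
    · have hfixg : ∀ j, ρ (g ^ j)⁻¹ (x : L) = x := fun j => by
        have h4 : ρ (g ^ j) (x : L) = x := by
          rw [hρpow, CycLattice.pow_apply_fixd (R := R) (L := L₁) ((CycLattice.mem_fixd (R := R) (L := L₁)).2 hxf)]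
        conv_lhs => rw [← h4, ← Module.End.mul_apply, hρinv]
        rfl
      rw [Finset.sum_congr rfl fun j _ => by rw [hfixg, map_pow], ← CycLattice.nrm_apply]
      set N₀ := CycLattice.nrm p (ρ g)
      rw [show N₀ (ψ x) = (N₀ (ψ x) - (p : R) • ψ x) + (p : R) • ψ x by abel]
      refine add_mem (Submodule.mem_sup_left ?_) (Submodule.mem_sup_right ⟨ψ x, rfl⟩)
      have hgγ : ρ g ^ p = 1 := by rw [← map_pow, hgp, map_one]
      rw [LinearMap.mem_ker, map_sub, map_smul,
        CycLattice.nrm_fixd (CycLattice.nrm_mem_fixd hgγ _), sub_self]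
    · obtain ⟨a, ha, _, ⟨b, rfl⟩, rfl⟩ := Submodule.mem_sup.1 hy
      rw [map_add]
      refine add_mem (Submodule.mem_sup_left ?_) (Submodule.mem_sup_right ⟨Φ b, by simp⟩)
      rw [LinearMap.mem_ker, CycLattice.nrm_apply] at ha ⊢
      have h5 : ∀ j, (ρ g ^ j) (Φ a) = Φ ((ρ g ^ j) a) := fun j => by
        rw [← map_pow, ← Module.End.mul_apply, ← hΦ, Module.End.mul_apply]
      rw [Finset.sum_congr rfl fun j _ => h5 j, ← map_sum, ha, map_zero]
    · intro hxL
      apply hxU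
      obtain ⟨a, ha, _, ⟨b, rfl⟩, hab⟩ := Submodule.mem_sup.1 hxL
      have h6 : cod a + cod ((p : R) • b) = x := by
        rw [← map_add, show (p : R) • b = ((p : R) • (1 : Module.End R L)) b from rfl, hab, hcs]
      rw [← h6]
      refine add_mem (Submodule.mem_sup_left ?_) (Submodule.mem_sup_right ⟨cod b, by simp⟩)
      refine Subtype.ext ?_
      rw [CycLattice.nrm_apply, Submodule.coe_sum,
        Finset.sum_congr rfl fun j _ => by rw [← hρpow, hsc, ← Module.End.mul_apply,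
          hπN j, Module.End.mul_apply, map_pow], ← map_sum,
        ← CycLattice.nrm_apply, LinearMap.mem_ker.1 ha, map_zero]
      rfl
  · refine hfinal t (by nlinarith [Int.natCast_nonneg s, hstZ, (show (1 : ℤ) ≤ n by omega)]) fun c => ?_
    obtain ⟨φ, h1, h2, h3⟩ := hφt c
    refine ⟨φ, h1, h2, fun i => ?_⟩
    obtain ⟨x, hxN, hxU, hxc⟩ := h3 i
    refine ⟨x, CycLattice.fixd (ρ g) ⊔ LinearMap.range (ρ g - 1), fun ψ => ?_,
      fun Φ hΦ y hy => ?_, ?_, hxc⟩
    · refine Submodule.mem_sup_right ?_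
      have h4 : ∀ j, ρ (g ^ j) (ψ (ρ (g ^ j)⁻¹ x)) - ψ (ρ (g ^ j)⁻¹ x) ∈
          LinearMap.range (ρ g - 1) := fun j => by
        rw [map_pow]; exact CycLattice.pow_sub_one_mem j _
      have h5 : ∑ j ∈ Finset.range p, ψ (ρ (g ^ j)⁻¹ (x : L)) = 0 := by
        rw [← map_sum, ← Finset.sum_range_reflect]
        have h6 : ∀ j ∈ Finset.range p, ρ (g ^ (p - 1 - j))⁻¹ (x : L) = ρ g ((γ ^ j) x : L) := by
          intro j hj
          have hjp := Finset.mem_range.1 hj
          rw [← hρpow, ← Module.End.mul_apply, hρcomm, show (g ^ (p - 1 - j))⁻¹ = g * g ^ j from ?_]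
          rw [← pow_succ', inv_eq_iff_mul_eq_one, ← pow_add,
            show p - 1 - j + (j + 1) = p by omega, hgp]
        rw [Finset.sum_congr rfl h6, ← map_sum, ← Submodule.coe_sum,
          ← CycLattice.nrm_apply (R := R) (L := L₁), hxN]
        simp
      have h7 := sum_mem (t := Finset.range p) fun j _ => h4 j
      rwa [Finset.sum_sub_distrib, h5, sub_zero] at h7
    · obtain ⟨a, ha, _, ⟨b, rfl⟩, rfl⟩ := Submodule.mem_sup.1 hy
      rw [map_add]
      refine add_mem (Submodule.mem_sup_left ?_) (Submodule.mem_sup_right ⟨Φ b, ?_⟩)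
      · rw [CycLattice.mem_fixd] at ha ⊢
        rw [← Module.End.mul_apply, ← hΦ, Module.End.mul_apply, ha]
      · simp only [LinearMap.sub_apply, Module.End.one_apply, map_sub]
        rw [← Module.End.mul_apply, ← hΦ, Module.End.mul_apply]
    · intro hxL
      apply hxU
      obtain ⟨a, ha, _, ⟨b, rfl⟩, hab⟩ := Submodule.mem_sup.1 hxL
      have hcg : ∀ w : L, γ (cod w) = cod (ρ g w) := fun w => Subtype.ext (by
        have h9 := hπN 1
        rw [pow_one] at h9
        have h10 := hfg 1 (cod w)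
        rw [pow_one, pow_one] at h10
        rw [h10, hsc, hsc, ← Module.End.mul_apply, h9, Module.End.mul_apply])
      have h6 : cod a + cod ((ρ g - 1) b) = x := by rw [← map_add, hab, hcs]
      rw [← h6]
      refine add_mem (Submodule.mem_sup_left (CycLattice.mem_fixd.2 ?_))
        (Submodule.mem_sup_right ⟨cod b, ?_⟩)
      · rw [hcg, CycLattice.mem_fixd.1 ha]
      · show γ (cod b) - cod b = cod (ρ g b - b)
        rw [map_sub, hcg]

end Cfsg.Agent.Blocks.PrimeBlock
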