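import Mathlib
import Cfsg.Agent.Lib.Blocks.PrimeBlock.Orbit
import Cfsg.Agent.Lib.Blocks.PrimeBlock.StableBoundGen
import Cfsg.Agent.Lib.Blocks.PrimeBlock.LocalRealize
import Cfsg.Agent.Lib.Blocks.PrimeSylow

/-!
# The bound for the sum of a Galois orbit of decomposition numbers
-/

set_option linter.style.haveILetI false
set_option linter.unusedSectionVars false

namespace Cfsg.Agent.Blocks.PrimeBlock

open Cfsg.Agent.Characters Cfsg.Agent.Blocks Cfsg.Agent.CharTheory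
open scoped ComplexConjugate

universe u

variable {G : Type u} [Group G] [Finite G] {p : ℕ} [Fact p.Prime] {M : Ideal Cfsg.AlgInt}
  {P : Sylow p G} {g : G} {K : Subgroup G} {h : G} {u : (ZMod p)ˣ} [Fintype K]
  (D : PrimeData p P g K h u)

local notation "CP" => Subgroup.centralizer (((P : Subgroup G)) : Set G)

local notation "NP" => Subgroup.normalizer (((P : Subgroup G)) : Set G)

/-- An automorphism of the ramified local ring over the unramified one. -/
theorem exists_sigma_weight (hM : Cfsg.IsPModular p M) {m : ℕ} (hm : ¬ p ∣ m) [NeZero (m * p)]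
    {ξ : ℂ} (hξ : IsPrimitiveRoot ξ (m * p)) (hξi : IsIntegral ℤ ξ) (w : (ZMod p)ˣ) :
    ∃ σ : cycLocal hM hξi →+* ℂ,
      (∀ s : cycLocal hM hξi, (s : ℂ) ∈ cycLocal hM (hξi.pow p) → σ s = s) ∧
      (∀ s, Cong M (σ s) (s : ℂ)) ∧
      ∀ z : ZMod p, ∃ hz : zexp (ξ ^ m) z ∈ cycLocal hM hξi,
        σ ⟨_, hz⟩ = zexp (ξ ^ m) ((w : ZMod p) * z) := by
  have hp : p.Prime := Fact.out
  have hm0 : 0 < m := Nat.pos_of_ne_zero fun h' => hm (h' ▸ dvd_zero p)
  set η := ξ ^ p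
  have hη : IsPrimitiveRoot η m := hξ.pow (Nat.mul_pos hm0 hp.pos) (mul_comm m p)
  set ζ := ξ ^ m with hζdef
  have hζ : IsPrimitiveRoot ζ p := hξ.pow (Nat.mul_pos hm0 hp.pos) rfl
  obtain ⟨W, hW1, hW2⟩ := Nat.chineseRemainder
    ((hp.coprime_iff_not_dvd.2 hm).symm) 1 (w : ZMod p).val
  have hWcop : W.Coprime (m * p) := Nat.Coprime.mul_right
    (show Nat.gcd W m = 1 by rw [hW1.gcd_eq]; exact Nat.gcd_one_left m)
    (show Nat.gcd W p = 1 by rw [hW2.gcd_eq]; exact ZMod.val_coe_unit_coprime w)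
  obtain ⟨σ, hσξ, hσc⟩ : ∃ σ : cycLocal hM hξi →+* ℂ,
      σ ⟨ξ, mem_cycLocal hM hξi (self_mem_cycAlg ξ)⟩ = ξ ^ W ∧
        ∀ s : cycLocal hM hξi, Cong M (σ s) (s : ℂ) :=
    exists_sigma hM hm hξ (fun _ => isIntegral_cycAlg hξi) hWcop hW1
  refine ⟨σ, fun s hs => ?_, hσc, fun z =>
    ⟨mem_cycLocal hM _ (pow_mem (pow_mem (self_mem_cycAlg ξ) _) _), ?_⟩⟩
  · obtain ⟨x, hx, y, hy, hyM, hsxy⟩ := hs
    have hle : cycAlg η ≤ cycAlg ξ := Algebra.adjoin_le (Set.singleton_subset_iff.2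
      (pow_mem (self_mem_cycAlg ξ) p))
    have hfix : ∀ z (hz : z ∈ cycAlg η), σ ⟨z, mem_cycLocal hM hξi (hle hz)⟩ = z := by
      intro z hz
      induction hz using Algebra.adjoin_induction with
      | mem z hz =>
        obtain rfl := Set.mem_singleton_iff.1 hz
        rw [show (⟨η, _⟩ : cycLocal hM hξi) =
          (⟨ξ, mem_cycLocal hM hξi (self_mem_cycAlg ξ)⟩ : cycLocal hM hξi) ^ p from
            Subtype.ext (by simp [η]), map_pow]
        rw [hσξ]
        rw [← pow_mul, mul_comm, pow_mul]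
        conv_rhs => rw [← pow_one η]
        exact (pow_eq_pow_mod W hη.pow_eq_one).trans
          ((congrArg (η ^ ·) hW1).trans (pow_eq_pow_mod 1 hη.pow_eq_one).symm)
      | algebraMap z =>
        rw [show (⟨algebraMap ℤ ℂ z, _⟩ : cycLocal hM hξi) = (z : cycLocal hM hξi) from
          Subtype.ext (by simp), map_intCast]
        simp
      | add z z' hz hz' ihz ihz' =>
        rw [show (⟨z + z', _⟩ : cycLocal hM hξi) =
          ⟨z, mem_cycLocal hM hξi (hle hz)⟩ + ⟨z', mem_cycLocal hM hξi (hle hz')⟩ from rfl,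
          map_add, ihz, ihz']
      | mul z z' hz hz' ihz ihz' =>
        rw [show (⟨z * z', _⟩ : cycLocal hM hξi) =
          ⟨z, mem_cycLocal hM hξi (hle hz)⟩ * ⟨z', mem_cycLocal hM hξi (hle hz')⟩ from rfl,
          map_mul, ihz, ihz']
    have hy0 := ne_zero_of_not_ideal hM hyM
    have h1 := congrArg σ (show s * ⟨y, mem_cycLocal hM hξi (hle hy)⟩ =
      ⟨x, mem_cycLocal hM hξi (hle hx)⟩ from Subtype.ext (by
        show (s : ℂ) * y = x
        rw [hsxy, div_mul_cancel₀ x hy0]))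
    rw [map_mul, hfix y hy, hfix x hx] at h1
    rw [hsxy, eq_div_iff hy0, h1]
  · rw [show (⟨zexp ζ z, _⟩ : cycLocal hM hξi) =
      (⟨ξ, mem_cycLocal hM hξi (self_mem_cycAlg ξ)⟩ : cycLocal hM hξi) ^ (m * z.val) from
        Subtype.ext (by simp [zexp, ζ, pow_mul]), map_pow]
    rw [hσξ]
    rw [← pow_mul, show W * (m * z.val) = m * (W * z.val) by ring, pow_mul, ← hζdef, zexp]
    rw [pow_eq_pow_mod _ hζ.pow_eq_one, ZMod.val_mul]
    exact congrArg (ζ ^ ·) (Nat.ModEq.mul_right z.val hW2)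

/-- `φ` extends to a representation of its inertia group over the unramified ring, trivial on `P`. -/
theorem exists_extension_rep (hM : Cfsg.IsPModular p M) (φ : Cfsg.IrrCharacter K) {m : ℕ}
    (hm : ¬ p ∣ m) (hdvd : Nat.card (inertia D φ) / p ∣ m) {η : ℂ} (hη : IsPrimitiveRoot η m)
    (hηi : IsIntegral ℤ η) (hgT : g ∈ inertia D φ) (hKT : K ≤ inertia D φ) :
    ∃ (d₀ : ℕ) (V : inertia D φ →* Matrix (Fin d₀) (Fin d₀) (cycLocal hM hηi)),
      0 < d₀ ∧ V ⟨g, hgT⟩ = 1 ∧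
      ∀ k : K, (((V ⟨k, hKT k.2⟩).trace : cycLocal hM hηi) : ℂ) = (φ : K → ℂ) k := by
  classical
  have hp : p.Prime := Fact.out
  set T := inertia D φ
  have hCT : (CP : Subgroup G) ≤ T := centralizer_le_inertia D φ
  set wT : T →* (ZMod p)ˣ := (wt D).comp (Subgroup.inclusion (inertia_le_normalizer D φ))
  haveI : ((CP : Subgroup G).subgroupOf T).Normal := by
    have : wT.ker = (CP : Subgroup G).subgroupOf T := by
      ext x
      rw [MonoidHom.mem_ker, Subgroup.mem_subgroupOf]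
      exact wt_eq_one_iff D _
    rw [← this]; infer_instance
  have hker : wT.ker = (CP : Subgroup G).subgroupOf T := by
    ext x
    rw [MonoidHom.mem_ker, Subgroup.mem_subgroupOf]
    exact wt_eq_one_iff D _
  have hcyc : IsCyclic (T ⧸ (CP : Subgroup G).subgroupOf T) := by
    haveI : IsCyclic (T ⧸ wT.ker) :=
      isCyclic_of_surjective (QuotientGroup.quotientKerEquivRange wT).symm.toMonoidHom
        (QuotientGroup.quotientKerEquivRange wT).symm.surjective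
    exact isCyclic_of_surjective (QuotientGroup.quotientMulEquivOfEq hker).toMonoidHom
      (QuotientGroup.quotientMulEquivOfEq hker).surjective
  set e := Subgroup.subgroupOfEquivOfLe hCT
  set θ' : (CP : Subgroup G).subgroupOf T → ℂ := (infl D φ : CP → ℂ) ∘ e
  have hθ' : Cfsg.IsIrrCharacter _ θ' := (isIrrCharacter_comp_mulEquiv e).2 (infl D φ).2
  obtain ⟨χT, hχT, hres⟩ := ExtendChar.exists_extension_cyclic ((CP : Subgroup G).subgroupOf T) hcyc hθ'
    fun t => funext fun c => by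
      obtain ⟨⟨i, k⟩, hik⟩ := (cEquiv_bijective D).2 (e c)
      set a : NP := ⟨t, inertia_le_normalizer D φ t.2⟩
      have h2 : e ⟨t * c * t⁻¹, Subgroup.Normal.conj_mem ‹_› _ c.2 t⟩ =
          cEquiv D ((wt D a : ZMod p) * i, cjE D a k) := Subtype.ext (by
        have hc : ((c : T) : G) = g ^ i.val * k := (congrArg Subtype.val hik).symm
        show (t : G) * ((c : T) : G) * (t : G)⁻¹ =
          g ^ ((wt D a : ZMod p) * i).val * (cjE D a k : K)
        rw [hc, ← conj_pow_g D a i, coe_cjE]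
        show _ = (t : G) * g ^ i.val * (t : G)⁻¹ * ((t : G) * k * (t : G)⁻¹)
        group)
      show (infl D φ : CP → ℂ) (e _) = (infl D φ : CP → ℂ) (e c)
      rw [h2, ← hik, infl_apply, infl_apply]
      exact cjE_of_mem D φ t.2 k
  -- descend modulo `P`
  set Z := (Subgroup.zpowers g).subgroupOf T
  haveI : Z.Normal := ⟨fun z hz t => by
    show (t : G) * z * (t : G)⁻¹ ∈ Subgroup.zpowers g
    rw [D.gen]
    exact (Subgroup.mem_normalizer_iff.1 (inertia_le_normalizer D φ t.2) z).1 (D.gen ▸ hz)⟩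
  have htriv : ∀ z ∈ (QuotientGroup.mk' Z).ker, χT z = χT 1 := by
    intro z hz
    rw [QuotientGroup.ker_mk'] at hz
    have hzC : (z : G) ∈ CP := Subgroup.zpowers_le.2 (g_mem_centralizer D) hz
    rw [hres ⟨z, hzC⟩, ← OneMemClass.coe_one ((CP : Subgroup G).subgroupOf T), hres 1]
    refine congrArg (φ : K → ℂ) ((?_ : proj D _ = 1).trans (by rw [map_one, map_one]))
    obtain ⟨i, hi⟩ := (mem_powers_iff_mem_zpowers.2 hz : (z : G) ∈ Submonoid.powers g)
    rw [← proj_mk D (i : ZMod p) 1]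
    refine congrArg (proj D) (Subtype.ext ?_)
    show (z : G) = g ^ (i : ZMod p).val * ((1 : K) : G)
    rw [OneMemClass.coe_one, mul_one,
      pow_eq_of_natCast D.order (ZMod.natCast_rightInverse (i : ZMod p))]
    exact hi.symm
  obtain ⟨χQ, hχQ, hcomp, -⟩ := exists_deflate (QuotientGroup.mk' Z)
    (QuotientGroup.mk'_surjective Z) (isCharacter_of_isIrr hχT) htriv
  have hcardQ : Nat.card (T ⧸ Z) = Nat.card T / p := by
    have hZ : Nat.card Z = p := by
      rw [Nat.card_congr (Subgroup.subgroupOfEquivOfLe (Subgroup.zpowers_le.2 hgT)).toEquiv,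
        Nat.card_zpowers, D.order]
    rw [Subgroup.card_eq_card_quotient_mul_card_subgroup Z, hZ, Nat.mul_div_cancel _ hp.pos]
  have hpow : ∀ q : T ⧸ Z, q ^ m = 1 := fun q =>
    orderOf_dvd_iff_pow_eq_one.1 ((orderOf_dvd_natCard q).trans (hcardQ ▸ hdvd))
  obtain ⟨d₀, V₀, hV₀⟩ := exists_localRep hM hχQ hm hpow hη hηi
  refine ⟨d₀, V₀.comp (QuotientGroup.mk' Z), ?_, ?_, fun k => ?_⟩
  · refine Nat.pos_of_ne_zero fun h0 => ?_
    subst h0
    have h1 := hV₀ 1
    rw [show ((V₀ 1).trace : ℂ) = 0 by simp [Matrix.trace],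
      ← map_one (QuotientGroup.mk' Z)] at h1
    replace h1 : 0 = χT 1 := h1.trans (congrFun hcomp 1)
    exact irr_one_ne_zero hχT h1.symm
  · rw [MonoidHom.comp_apply, QuotientGroup.mk'_apply,
      (QuotientGroup.eq_one_iff _).2 (show (⟨g, hgT⟩ : T) ∈ Z from Subgroup.mem_zpowers g), map_one]
  · rw [MonoidHom.comp_apply, hV₀]
    show (χQ ∘ QuotientGroup.mk' Z) _ = _
    rw [hcomp, show (⟨(k : G), hKT k.2⟩ : T) =
      ((⟨⟨k, hKT k.2⟩, k_le_centralizer D k.2⟩ : (CP : Subgroup G).subgroupOf T) : T) from rfl,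
      hres]
    exact congrArg (φ : K → ℂ) (proj_coe D k)

set_option maxHeartbeats 1600000 in
/-- **The bound.** -/
theorem abs_sum_dd_le_one (hM : Cfsg.IsPModular p M) {B : Set (Cfsg.IrrCharacter G)}
    (hB : Cfsg.IsPBlock M B) (hBP : Cfsg.IsDefectGroup p M B (P : Subgroup G))
    {φ : Cfsg.IrrCharacter K} (hind : Cfsg.IsInducedBlock M CP (bl D M φ) B)
    {r : ℕ} (θ : Fin r → Cfsg.IrrCharacter G) (j₀ : Fin r) (v : ℤ)
    (hinj : Function.Injective θ) (hmem : ∀ j, θ j ∈ B)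
    (hsame : ∀ j, ∀ y, ¬ p ∣ orderOf y → (θ j : G → ℂ) y = (θ j₀ : G → ℂ) y)
    (hgal : ∀ j, ∃ w : (ZMod p)ˣ, ∀ i : ZMod p, i ≠ 0 →
      dd D φ (θ j) i = dd D φ (θ j₀) ((w : ZMod p) * i))
    (hv : ∀ i : ZMod p, i ≠ 0 → ∑ j, dd D φ (θ j) i = v) : |v| ≤ 1 := by
  classical
  have hp : p.Prime := Fact.out
  obtain ⟨m₀, hm₀, hcard⟩ : ∃ m₀, ¬ p ∣ m₀ ∧ Nat.card G = p * m₀ := by
    refine ⟨(P : Subgroup G).index, P.not_dvd_index, ?_⟩
    rw [← (P : Subgroup G).card_mul_index, D.card_sylow]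
  set m := m₀ * (p - 1) * (p * Nat.card G + 1) with hmdef
  have hp2 := hp.two_le
  have hm : ¬ p ∣ m := by
    intro hd
    rcases hp.dvd_mul.1 hd with h' | h'
    · rcases hp.dvd_mul.1 h' with h'' | h''
      · exact hm₀ h''
      · exact absurd (Nat.le_of_dvd (by omega) h'') (by omega)
    · rw [Nat.dvd_add_right (dvd_mul_right _ _), Nat.dvd_one] at h'
      exact hp.ne_one h'
  have hm0 : 0 < m := Nat.pos_of_ne_zero fun h' => hm (h' ▸ dvd_zero p)
  haveI : NeZero (m * p) := ⟨(Nat.mul_pos hm0 hp.pos).ne'⟩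
  haveI : NeZero m := ⟨hm0.ne'⟩
  obtain ⟨ξ, hξ⟩ : ∃ ξ : ℂ, IsPrimitiveRoot ξ (m * p) :=
    ⟨_, Complex.isPrimitiveRoot_exp (m * p) (NeZero.ne _)⟩
  have hξi : IsIntegral ℤ ξ := hξ.isIntegral (Nat.mul_pos hm0 hp.pos)
  have hη : IsPrimitiveRoot (ξ ^ p) m := hξ.pow (Nat.mul_pos hm0 hp.pos) (mul_comm m p)
  have hζ : IsPrimitiveRoot (ξ ^ m) p := hξ.pow (Nat.mul_pos hm0 hp.pos) rfl
  have hord : ∀ a : G, orderOf a ∣ m * p := fun a => (orderOf_dvd_natCard a).trans (by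
    rw [hcard, mul_comm]
    exact Nat.mul_dvd_mul_right ((dvd_mul_right _ _).trans (dvd_mul_right _ _)) p)
  have hordreg : ∀ a : G, ¬ p ∣ orderOf a → orderOf a ∣ m := fun a ha =>
    (Nat.Coprime.dvd_of_dvd_mul_right ((hp.coprime_iff_not_dvd.2 ha).symm) (hord a))
  have hKR : ∀ (φ' : Cfsg.IrrCharacter K) (k : K),
      (φ' : K → ℂ) k ∈ cycLocal hM (hξi.pow p) := fun φ' k =>
    mem_cycLocal hM _ (value_mem_cycAlg φ' hη (by
      rw [← Subgroup.orderOf_coe]; exact hordreg _ ((D.mem_iff _).1 k.2).1))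
  have hθS : ∀ x, (θ j₀ : G → ℂ) x ∈ cycLocal hM hξi := fun x =>
    mem_cycLocal hM _ (value_mem_cycAlg _ hξ (hord x))
  have hRS : ∀ z, z ∈ cycLocal hM (hξi.pow p) → z ∈ cycLocal hM hξi := by
    rintro _ ⟨a, ha, b, hb, hbM, rfl⟩
    have hle : cycAlg (ξ ^ p) ≤ cycAlg ξ := Algebra.adjoin_le (Set.singleton_subset_iff.2
      (pow_mem (self_mem_cycAlg ξ) p))
    exact ⟨a, hle ha, b, hle hb, hbM, rfl⟩
  have hregR : ∀ x, ¬ p ∣ orderOf x → ∀ j, (θ j : G → ℂ) x ∈ cycLocal hM (hξi.pow p) :=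
    fun x hx j => mem_cycLocal hM _ (value_mem_cycAlg _ hη (hordreg x hx))
  have hsing : ∀ (j : Fin r) (i : ℕ), ¬ p ∣ i → ∀ k : K, (θ j : G → ℂ) (g ^ i * k) =
      ∑ φ' ∈ orb D φ, dd D φ (θ j) ((worb D φ φ' : ZMod p) * i) * (φ' : K → ℂ) k :=
    fun j i hi k => by
      rw [pow_eq_of_natCast D.order (ZMod.natCast_rightInverse (i : ZMod p)).symm,
        value_orbit D hM hB hBP hind (hmem j)
          (fun h' => hi ((ZMod.natCast_eq_zero_iff _ _).1 h')) k]
  have hgT : g ∈ inertia D φ := centralizer_le_inertia D φ (g_mem_centralizer D)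
  have hKT : K ≤ inertia D φ := (k_le_centralizer D).trans (centralizer_le_inertia D φ)
  have hdvdT : Nat.card (inertia D φ) / p ∣ m := by
    have h1 : Nat.card (inertia D φ) ∣ p * m₀ := hcard ▸ (inertia D φ).card_subgroup_dvd_card
    have h2 : p ∣ Nat.card (inertia D φ) :=
      ((Subgroup.orderOf_mk g hgT).trans D.order).symm.dvd.trans
        (orderOf_dvd_natCard (⟨g, hgT⟩ : inertia D φ))
    exact ((Nat.div_dvd_iff_dvd_mul h2 hp.pos).2 h1).trans
      ((dvd_mul_right _ _).trans (dvd_mul_right _ _))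
  obtain ⟨d₀, V, hd₀, hVg, hVtr⟩ :=
    exists_extension_rep D hM φ hm hdvdT hη (hξi.pow p) hgT hKT
  obtain ⟨t, ht, w₀, hconj, hord₀, hpow₀, hgen₀⟩ := exists_inertia_gen D φ
  have hmove : ∀ a (ha : a ∈ NP), a ∉ inertia D φ →
      ∑ k : K, (φ : K → ℂ) k⁻¹ * (φ : K → ℂ) ⟨a * k * a⁻¹, D.normal a ha k k.2⟩ = 0 := by
    intro a ha hnot
    have h1 : Cfsg.classInner ((cjI D ⟨a, ha⟩ φ : Cfsg.IrrCharacter K) : K → ℂ) (φ : K → ℂ) = 0 := by
      rw [classInner_irr, if_neg]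
      exact fun e => hnot ((mem_inertia D).2 ⟨ha, e⟩)
    rw [classInner_def, mul_eq_zero] at h1
    rw [← h1.resolve_left (inv_ne_zero natCard_ne_zero)]
    refine Finset.sum_congr rfl fun k _ => ?_
    rw [char_inv (irr_isCharacter φ), mul_comm]
    rfl
  refine abs_sum_conjugates_le_one' hM P D.card_sylow D.g_mem D.g_ne_one D.normal
    (fun k hk => D.commute_of_mem hk) D.not_dvd (inertia_le_normalizer D φ) hKT hgT ht
    (u := (w₀ : ZMod p).val) (ZMod.val_coe_unit_coprime w₀) hconj (orderOf_pos w₀) hpow₀ hgen₀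
    hm ?_ hξ hξi hd₀ V hVg φ.2 hVtr hmove θ hinj j₀
    (n := Cfsg.charDegree (θ j₀ : G → ℂ))
    (fun j => by rw [hsame j 1 (by simp [hp.ne_one])]; exact (charDegree_cast _).symm)
    ?_ hθS (fun x => ?_) (fun j => ?_) v (fun i hi0 hip => ?_)
  · rw [hord₀]
    exact (card_sgp_dvd D φ).trans ((dvd_mul_left _ _).trans (dvd_mul_right _ _))
  · have h1 : Cfsg.charDegree (θ j₀ : G → ℂ) ≤ Nat.card G :=
      Nat.le_of_dvd Nat.card_pos (char_degree_dvd_card (θ j₀))
    have h2 : p * Nat.card G + 1 ≤ m :=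
      Nat.le_mul_of_pos_left _ (Nat.mul_pos (Nat.pos_of_ne_zero fun h' => hm₀ (h' ▸ dvd_zero p))
        (by omega))
    nlinarith
  · rcases D.regular_or_conj x with hx | ⟨i, hi, k, hk, hc⟩
    · exact sum_mem fun j _ => hregR x hx j
    · obtain ⟨c, hc⟩ := isConj_iff.1 hc
      rw [Finset.sum_congr rfl fun j _ => show (θ j : G → ℂ) x =
          ∑ φ' ∈ orb D φ, dd D φ (θ j) ((worb D φ φ' : ZMod p) * i) * (φ' : K → ℂ) ⟨k, hk⟩ by
        rw [← irr_isClassFunction (θ j) x c, hc]; exact hsing j i hi ⟨k, hk⟩, Finset.sum_comm]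
      refine sum_mem fun φ' _ => ?_
      rw [← Finset.sum_mul, hv _ (mul_ne_zero (Units.ne_zero _)
        fun h' => hi ((ZMod.natCast_eq_zero_iff _ _).1 h'))]
      exact mul_mem (intCast_mem _ v) (hKR _ _)
  · obtain ⟨w, hw⟩ := hgal j
    obtain ⟨σ, hσR, hσc, hσζ⟩ := exists_sigma_weight hM hm hξ hξi w
    refine ⟨σ, hσR, hσc, fun x => ?_⟩
    rcases D.regular_or_conj x with hx | ⟨i, hi, k, hk, hc⟩
    · rw [hσR _ (hregR x hx j₀), hsame j x hx]
    · obtain ⟨c, hc⟩ := isConj_iff.1 hc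
      obtain ⟨a, -, haval, -, -⟩ := exists_coord_dd D hζ φ (θ j₀)
      have hne : ∀ φ' : Cfsg.IrrCharacter K, (worb D φ φ' : ZMod p) * (i : ZMod p) ≠ 0 := fun φ' =>
        mul_ne_zero (Units.ne_zero _) fun h' => hi ((ZMod.natCast_eq_zero_iff _ _).1 h')
      choose hmemz hz using hσζ
      have hx0 : (⟨_, hθS x⟩ : cycLocal hM hξi) = ∑ φ' ∈ orb D φ,
          (∑ l : ZMod p, (a l : cycLocal hM hξi) *
            ⟨_, hmemz ((worb D φ φ' : ZMod p) * (i : ZMod p) * l)⟩) *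
            ⟨_, hRS _ (hKR φ' ⟨k, hk⟩)⟩ := Subtype.ext (by
        simp only [AddSubmonoidClass.coe_finsetSum, Subring.coe_mul, Subring.coe_intCast]
        rw [← irr_isClassFunction (θ j₀) x c, hc]
        refine (hsing j₀ i hi ⟨k, hk⟩).trans (Finset.sum_congr rfl fun φ' _ => ?_)
        rw [haval _ (hne φ')])
      rw [hx0, map_sum, ← irr_isClassFunction (θ j) x c, hc]
      refine ((hsing j i hi ⟨k, hk⟩).trans (Finset.sum_congr rfl fun φ' _ => ?_)).symm
      rw [map_mul, map_sum, hσR _ (hKR φ' ⟨k, hk⟩), hw _ (hne φ'),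
        haval _ (mul_ne_zero w.ne_zero (hne φ'))]
      refine congrArg (· * _) (Finset.sum_congr rfl fun l _ => ?_)
      rw [map_mul, map_intCast, hz, mul_assoc (w : ZMod p)]
  · have hi : ¬ p ∣ i := Nat.not_dvd_of_pos_of_lt hi0 hip
    have hi' : (i : ZMod p) ≠ 0 := fun h' => hi ((ZMod.natCast_eq_zero_iff _ _).1 h')
    have h1 : ∀ j, ∑ k : K, (θ j : G → ℂ) (g ^ i * k) * (φ : K → ℂ) k⁻¹ =
        (Nat.card K : ℂ) * dd D φ (θ j) (i : ZMod p) := fun j => by
      rw [dd, classInner_def, mul_inv_cancel_left₀ natCard_ne_zero]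
      refine Finset.sum_congr rfl fun k _ => ?_
      rw [char_inv (irr_isCharacter φ),
        pow_eq_of_natCast D.order (ZMod.natCast_rightInverse (i : ZMod p))]
    simp only [Finset.sum_mul]
    rw [Finset.sum_comm, Finset.sum_congr rfl fun j _ => h1 j, ← Finset.mul_sum, hv _ hi']

end Cfsg.Agent.Blocks.PrimeBlock
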