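import Mathlib
import Cfsg.Agent.Lib.Blocks.PrimeBlock.Bound

/-!
# A block with a defect group of order `p`
-/

set_option linter.style.haveILetI false
set_option linter.unusedSectionVars false

namespace Cfsg.Agent.Blocks.PrimeBlock

open Cfsg.Agent.Characters Cfsg.Agent.Blocks
open scoped ComplexConjugate

universe u v

variable {G : Type u} [Group G] [Finite G] {p : ℕ} [Fact p.Prime] {M : Ideal Cfsg.AlgInt}
  {P : Sylow p G} {g : G} {K : Subgroup G} {h : G} {u : (ZMod p)ˣ} [Fintype K]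
  (D : PrimeData p P g K h u)

local notation "CP" => Subgroup.centralizer (((P : Subgroup G)) : Set G)

local notation "NP" => Subgroup.normalizer (((P : Subgroup G)) : Set G)

/-- The Gram matrix of coordinates of functions orthogonal like sections. -/
theorem gram_of_orth {ι : Type v} (s : Finset ι) {ζ : ℂ} (hζ : IsPrimitiveRoot ζ p)
    (d : ι → ZMod p → ℂ) (a : ι → ZMod p → ℤ)
    (ha : ∀ χ ∈ s, ∀ j, (p : ℂ) * a χ j = ∑ i : ZMod p, d χ i * (zexp ζ (-(i * j)) - 1))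
    (S : Subgroup (ZMod p)ˣ) [∀ i i' : ZMod p, Decidable (∃ v ∈ S, (v : ZMod p) * i = i')]
    (horth : ∀ i i' : ZMod p, i ≠ 0 → i' ≠ 0 → ∑ χ ∈ s, d χ i * conj (d χ i') =
      if ∃ v ∈ S, (v : ZMod p) * i = i' then (p : ℂ) else 0)
    (j k : (ZMod p)ˣ) [Decidable (j * k⁻¹ ∈ S)] :
    ∑ χ ∈ s, a χ j * a χ k = (if j * k⁻¹ ∈ S then 1 else 0) + (Nat.card S : ℤ) := by
  classical
  have hp : p.Prime := Fact.out
  set U := Finset.univ.filter (fun v : (ZMod p)ˣ => v ∈ S)
  have hU : U.card = Nat.card S := by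
    rw [Nat.card_eq_fintype_card, Fintype.card_subtype]
  set e₁ : ZMod p → ZMod p → ℂ := fun i j => zexp ζ (-(i * j)) - 1 with he₁
  have he0 : ∀ j, e₁ 0 j = 0 := fun j => by simp [e₁, zexp_zero]
  have hinner : ∀ i : ZMod p, i ≠ 0 →
      ∑ i' : ZMod p, (∑ χ ∈ s, d χ i * conj (d χ i')) * conj (e₁ i' k) =
        (p : ℂ) * ∑ v ∈ U, conj (e₁ ((v : ZMod p) * i) k) := by
    intro i hi
    have hterm : ∀ i' : ZMod p,
        (∑ χ ∈ s, d χ i * conj (d χ i')) * conj (e₁ i' k) =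
          if i' ∈ U.image (fun v : (ZMod p)ˣ => (v : ZMod p) * i) then
            (p : ℂ) * conj (e₁ i' k) else 0 := by
      intro i'
      rcases eq_or_ne i' 0 with rfl | hi'
      · simp [he0]
      · rw [horth i i' hi hi', ite_mul, zero_mul]
        refine if_congr ?_ rfl rfl
        simp [U]
    rw [Finset.sum_congr rfl fun i' _ => hterm i', ← Finset.sum_filter, Finset.mul_sum,
      Finset.filter_mem_eq_inter, Finset.univ_inter, Finset.sum_image fun v _ w _ e =>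
        Units.ext (mul_right_cancel₀ hi e)]
  have hfull : ∀ v ∈ U, ∑ i : ZMod p, e₁ i j * conj (e₁ ((v : ZMod p) * i) k) =
      (if j = v * k then (p : ℂ) else 0) + p := by
    intro v _
    have h1 : ∀ i : ZMod p, e₁ i j * conj (e₁ ((v : ZMod p) * i) k) =
        zexp ζ (i * ((v * k : (ZMod p)ˣ) - j : ZMod p)) - zexp ζ (i * (-(j : ZMod p))) -
          zexp ζ (i * ((v * k : (ZMod p)ˣ) : ZMod p)) + 1 := by
      intro i
      simp only [e₁, map_sub, map_one, conj_zexp hζ, neg_neg, Units.val_mul]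
      rw [show i * ((v : ZMod p) * k - j) = -(i * j) + (v : ZMod p) * i * k by ring, zexp_add hζ,
        mul_neg, show i * ((v : ZMod p) * k) = (v : ZMod p) * i * k by ring]
      ring
    rw [Finset.sum_congr rfl fun i _ => h1 i, Finset.sum_add_distrib, Finset.sum_sub_distrib,
      Finset.sum_sub_distrib, sum_zexp_mul hζ, sum_zexp_mul hζ, sum_zexp_mul hζ,
      if_neg (show -(j : ZMod p) ≠ 0 from neg_ne_zero.2 j.ne_zero), if_neg (v * k).ne_zero]
    rw [sub_zero, sub_zero, Finset.sum_const, Finset.card_univ, ZMod.card, nsmul_one]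
    congr 1
    refine if_congr ?_ rfl rfl
    rw [sub_eq_zero, Units.val_inj, eq_comm]
  have hp0 : (p : ℂ) ≠ 0 := Nat.cast_ne_zero.2 hp.ne_zero
  have hmain : (p : ℂ) * p * ∑ χ ∈ s, (a χ j : ℂ) * a χ k =
      (p : ℂ) * p * ((if j * k⁻¹ ∈ S then (1 : ℂ) else 0) + (Nat.card S : ℂ)) := by
    have h1 : ∀ χ ∈ s, (p : ℂ) * p * ((a χ j : ℂ) * a χ k) =
        ∑ i : ZMod p, ∑ i' : ZMod p, e₁ i j * (d χ i * conj (d χ i') * conj (e₁ i' k)) := by
      intro χ hχ
      rw [show (p : ℂ) * p * ((a χ j : ℂ) * a χ k) = ((p : ℂ) * a χ j) * conj ((p : ℂ) * a χ k) by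
        rw [map_mul, map_natCast, map_intCast]; ring, ha χ hχ j, ha χ hχ k, map_sum,
        Finset.sum_mul_sum]
      refine Finset.sum_congr rfl fun i _ => Finset.sum_congr rfl fun i' _ => ?_
      simp only [e₁, map_mul]; ring
    rw [Finset.mul_sum, Finset.sum_congr rfl h1, Finset.sum_comm]
    rw [Finset.sum_congr rfl fun i _ => show (∑ χ ∈ s, ∑ i' : ZMod p,
        e₁ i j * (d χ i * conj (d χ i') * conj (e₁ i' k))) =
        e₁ i j * ((p : ℂ) * ∑ v ∈ U, conj (e₁ ((v : ZMod p) * i) k)) by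
      rcases eq_or_ne i 0 with rfl | hi
      · simp [he0]
      rw [Finset.sum_comm, ← hinner i hi, Finset.mul_sum]
      exact Finset.sum_congr rfl fun i' _ => by rw [Finset.sum_mul, Finset.mul_sum]]
    simp only [Finset.mul_sum, mul_left_comm (e₁ _ _) (p : ℂ)]
    rw [Finset.sum_comm]
    simp only [← Finset.mul_sum]
    rw [Finset.sum_congr rfl hfull, Finset.sum_add_distrib, Finset.sum_const, hU,
      Finset.sum_congr rfl fun v _ => show (if j = v * k then (p : ℂ) else 0) =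
        if j * k⁻¹ = v then (p : ℂ) else 0 from if_congr mul_inv_eq_iff_eq_mul.symm rfl rfl,
      Finset.sum_ite_eq]
    simp only [U, Finset.mem_filter, Finset.mem_univ, true_and, nsmul_eq_mul, mul_add]
    congr 1
    · split_ifs <;> simp [mul_assoc]
    · ring
  have h2 := mul_left_cancel₀ (mul_ne_zero hp0 hp0) hmain
  split_ifs at h2 ⊢ <;> exact_mod_cast h2

open Classical in
/-- The sum of the nontrivial linear characters in one class of `(ZMod p)ˣ` modulo `S`. -/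
noncomputable def sS (ζ : ℂ) {S : Subgroup (ZMod p)ˣ} (J : (ZMod p)ˣ ⧸ S) (i : ZMod p) : ℂ :=
  ∑ j : (ZMod p)ˣ, if (j : (ZMod p)ˣ ⧸ S) = J then zexp ζ (i * (j : ZMod p)) else 0

theorem sS_mul (ζ : ℂ) {S : Subgroup (ZMod p)ˣ} (J : (ZMod p)ˣ ⧸ S) (w : (ZMod p)ˣ) (i : ZMod p) :
    sS ζ J ((w : ZMod p) * i) = sS ζ ((w : (ZMod p)ˣ ⧸ S) * J) i := by
  classical
  refine Fintype.sum_equiv (Equiv.mulLeft w) _ _ fun l => ?_
  rw [Equiv.coe_mulLeft, Units.val_mul, show (w : ZMod p) * i * l = i * ((w : ZMod p) * l) by ring]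
  refine if_congr ?_ rfl rfl
  rw [QuotientGroup.mk_mul, mul_right_inj]

theorem sum_sS {ζ : ℂ} (hζ : IsPrimitiveRoot ζ p) {S : Subgroup (ZMod p)ˣ}
    [Fintype ((ZMod p)ˣ ⧸ S)] {i : ZMod p} (hi : i ≠ 0) : ∑ J : (ZMod p)ˣ ⧸ S, sS ζ J i = -1 := by
  classical
  simp only [sS]
  rw [Finset.sum_comm]
  simp only [Finset.sum_ite_eq, Finset.mem_univ, if_true, sum_units_zexp hζ hi]

/-- The data of a block with a defect group of order `p`. -/
structure BlockData (B : Set (Cfsg.IrrCharacter G)) (φ : Cfsg.IrrCharacter K) (ζ : ℂ)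
    (θ : (ZMod p)ˣ ⧸ sgp D φ → Cfsg.IrrCharacter G) (c : Cfsg.IrrCharacter G → ℤ) (s c₀ ε : ℤ) :
    Prop where
  inj : Function.Injective θ
  mem : ∀ J, θ J ∈ B
  card_X : Nat.card (B \ Set.range θ : Set (Cfsg.IrrCharacter G)) = Nat.card (sgp D φ)
  sign : ∀ χ ∈ B \ Set.range θ, c χ = 1 ∨ c χ = -1
  value_X : ∀ χ ∈ B \ Set.range θ, ∀ i : ZMod p, i ≠ 0 → dd D φ χ i = ((-c χ : ℤ) : ℂ)
  sign_Y : s = 1 ∨ s = -1
  s_eq : s = (Nat.card ((ZMod p)ˣ ⧸ sgp D φ) : ℤ) * c₀ + ε
  value_Y : ∀ J, ∀ i : ZMod p, i ≠ 0 → dd D φ (θ J) i = -(c₀ : ℂ) + (ε : ℂ) * sS ζ J i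
  same : ∀ J J', ∀ y : G, ¬ p ∣ orderOf y → (θ J : G → ℂ) y = (θ J' : G → ℂ) y
  relation : ∀ J, ∀ y : G, ¬ p ∣ orderOf y →
    (∑ᶠ χ ∈ B \ Set.range θ, (c χ : ℂ) * (χ : G → ℂ) y) + (s : ℂ) * (θ J : G → ℂ) y = 0

set_option maxHeartbeats 1600000 in
/-- **The structure of a block with a defect group of order `p`.** -/
theorem exists_blockData (hM : Cfsg.IsPModular p M) {B : Set (Cfsg.IrrCharacter G)}
    (hB : Cfsg.IsPBlock M B) (hBP : Cfsg.IsDefectGroup p M B (P : Subgroup G))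
    {φ : Cfsg.IrrCharacter K} (hind : Cfsg.IsInducedBlock M CP (bl D M φ) B)
    {ζ : ℂ} (hζ : IsPrimitiveRoot ζ p) :
    ∃ (θ : (ZMod p)ˣ ⧸ sgp D φ → Cfsg.IrrCharacter G) (c : Cfsg.IrrCharacter G → ℤ) (s c₀ ε : ℤ),
      BlockData D B φ ζ θ c s c₀ ε := by
  classical
  have hp : p.Prime := Fact.out
  haveI := Fintype.ofFinite (Cfsg.IrrCharacter G)
  haveI := Fintype.ofFinite ((ZMod p)ˣ ⧸ sgp D φ)
  set S := sgp D φ with hS
  set BF := Finset.univ.filter (fun χ : Cfsg.IrrCharacter G => χ ∈ B) with hBF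
  have hmkB : ∀ χ, χ ∈ BF ↔ χ ∈ B := fun χ => by simp [BF]
  choose a ha0 haval hau hainv using exists_coord_dd D hζ φ
  have hzero : ∀ χ, χ ∉ BF → ∀ i : ZMod p, i ≠ 0 → dd D φ χ i = 0 := fun χ hχ i hi =>
    dd_eq_zero_of_notMem D hM hind (fun h' => hχ ((hmkB χ).2 h')) hi
  have hval : ∀ χ : Cfsg.IrrCharacter G, ∀ i : ZMod p, i ≠ 0 →
      dd D φ χ i = ∑ j : (ZMod p)ˣ, (a χ j : ℂ) * zexp ζ (i * (j : ZMod p)) := by
    intro χ i hi
    rw [haval χ i hi, ← Finset.add_sum_erase _ _ (Finset.mem_univ (0 : ZMod p)), ha0,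
      Int.cast_zero, zero_mul, zero_add]
    symm
    refine Finset.sum_bij (fun (j : (ZMod p)ˣ) _ => (j : ZMod p)) (by simp)
      (fun a _ b _ e => Units.ext e)
      (fun b hb => ⟨Units.mk0 b (Finset.mem_erase.1 hb).1, Finset.mem_univ _, rfl⟩) fun j _ => rfl
  have hclass : ∀ (χ : Cfsg.IrrCharacter G) (j k : (ZMod p)ˣ),
      (j : (ZMod p)ˣ ⧸ S) = k → a χ j = a χ k := by
    intro χ j k hjk
    rw [QuotientGroup.eq] at hjk
    obtain ⟨v, hv, hv'⟩ := hjk
    rw [show k = (j⁻¹ * k) * j by rw [mul_comm (j⁻¹ * k), mul_inv_cancel_left], ← hv',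
      Units.val_mul, hau χ v hv]
  have horth : ∀ i i' : ZMod p, i ≠ 0 → i' ≠ 0 →
      ∑ χ ∈ BF, dd D φ χ i * conj (dd D φ χ i') =
        if ∃ v ∈ S, (v : ZMod p) * i = i' then (p : ℂ) else 0 := by
    intro i i' hi hi'
    rw [← sum_dd_mul_conj D φ hi hi']
    exact Finset.sum_subset (Finset.subset_univ _) fun χ _ hχ => by rw [hzero χ hχ i hi, zero_mul]
  have hgram := gram_of_orth BF hζ (fun χ => dd D φ χ) a (fun χ _ => hainv χ) S horth
  have hreg : ∀ j : (ZMod p)ˣ, ∀ y : G, ¬ p ∣ orderOf y →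
      ∑ χ ∈ BF, (a χ j : ℂ) * (χ : G → ℂ) y = 0 := by
    intro j y hy
    refine (mul_eq_zero.1 (?_ : (p : ℂ) * _ = 0)).resolve_left (Nat.cast_ne_zero.2 hp.ne_zero)
    rw [Finset.mul_sum, Finset.sum_congr rfl fun χ _ => by
      rw [← mul_assoc, hainv χ j, Finset.sum_mul], Finset.sum_comm]
    refine Finset.sum_eq_zero fun i _ => ?_
    rcases eq_or_ne i 0 with rfl | hi
    · simp [zexp_zero]
    rw [Finset.sum_congr rfl fun χ _ => mul_right_comm _ _ _, ← Finset.sum_mul,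
      Finset.sum_subset (Finset.subset_univ BF) fun χ _ hχ => by rw [hzero χ hχ i hi, zero_mul],
      sum_dd_mul_regular D φ hi hy, zero_mul]
  -- constant coordinates
  have hconst : ∀ χ ∈ B, ∀ c : ℤ, (∀ j : (ZMod p)ˣ, a χ j = c) →
      (c = 1 ∨ c = -1) ∧ ∀ i : ZMod p, i ≠ 0 → dd D φ χ i = ((-c : ℤ) : ℂ) := by
    intro χ hχ c hc
    have hv : ∀ i : ZMod p, i ≠ 0 → dd D φ χ i = ((-c : ℤ) : ℂ) := fun i hi => by
      rw [hval χ i hi, Finset.sum_congr rfl fun j _ => by rw [hc j], ← Finset.mul_sum,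
        sum_units_zexp hζ hi]
      push_cast; ring
    refine ⟨?_, hv⟩
    have hb := abs_sum_dd_le_one D hM hB hBP hind (fun _ : Fin 1 => χ) 0 (-c)
      (fun i j _ => Subsingleton.elim i j) (fun _ => hχ)
      (fun _ _ _ => rfl) (fun _ => ⟨1, fun i _ => by simp⟩)
      (fun i hi => by simpa using hv i hi)
    have hc0 : c ≠ 0 := fun h' => by
      obtain ⟨i, hi, hne⟩ := exists_dd_ne_zero D hM hB hBP hind hχ
      exact hne (by rw [hv i hi, h', neg_zero, Int.cast_zero])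
    rw [abs_le] at hb
    omega
  -- classes
  set r := Fintype.card ((ZMod p)ˣ ⧸ S) with hrdef
  have hr : r * Nat.card S = p - 1 := by
    rw [hrdef, ← Nat.card_eq_fintype_card, ← Subgroup.index, Subgroup.index_mul_card,
      Nat.card_eq_fintype_card, ZMod.card_units]
  have hp2 := hp.two_le
  set e := Nat.card S with he
  have he0 : 0 < e := Nat.card_pos
  have hfin : ∀ (Y : Finset (Cfsg.IrrCharacter G)) (F : Cfsg.IrrCharacter G → ℂ),
      ∑ᶠ χ ∈ B \ (↑Y : Set (Cfsg.IrrCharacter G)), F χ = ∑ χ ∈ BF \ Y, F χ := fun Y F => by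
    rw [← finsum_mem_coe_finset, Finset.coe_sdiff]
    simp [BF]
  have hcardX : ∀ (Y : Finset (Cfsg.IrrCharacter G)),
      Nat.card (B \ (↑Y : Set (Cfsg.IrrCharacter G)) : Set (Cfsg.IrrCharacter G)) =
        (BF \ Y).card := fun Y => by
    rw [← Nat.card_eq_finsetCard]
    exact Nat.card_congr (Equiv.setCongr (by ext χ; simp [BF]))
  rcases Nat.lt_or_ge r 2 with hr1 | hr2
  · -- a single class
    have hr1' : r = 1 := by
      have : r ≠ 0 := fun h' => by rw [h', zero_mul] at hr; omega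
      omega
    haveI : Subsingleton ((ZMod p)ˣ ⧸ S) := Fintype.card_le_one_iff_subsingleton.1 (by omega)
    have hcst : ∀ χ, ∀ j : (ZMod p)ˣ, a χ j = a χ (1 : (ZMod p)ˣ) := fun χ j =>
      hclass χ _ _ (Subsingleton.elim _ _)
    obtain ⟨χ₀, hχ₀⟩ := block_nonempty hM hB
    set c : Cfsg.IrrCharacter G → ℤ := fun χ => a χ (1 : (ZMod p)ˣ) with hc
    have hpm : ∀ χ ∈ B, (c χ = 1 ∨ c χ = -1) ∧ ∀ i : ZMod p, i ≠ 0 →
        dd D φ χ i = ((-c χ : ℤ) : ℂ) := fun χ hχ => hconst χ hχ _ (hcst χ)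
    set θ : (ZMod p)ˣ ⧸ S → Cfsg.IrrCharacter G := fun _ => χ₀
    have hrange : Set.range θ = ↑({χ₀} : Finset (Cfsg.IrrCharacter G)) := by
      rw [Finset.coe_singleton]; exact Set.range_const
    have hk : (BF.card : ℤ) = 1 + e := by
      have h1 := hgram 1 1
      rw [mul_inv_cancel, if_pos S.one_mem, Finset.sum_congr rfl (g := fun _ => (1 : ℤ))
        fun χ hχ => by
          show c χ * c χ = 1
          rcases (hpm χ ((hmkB χ).1 hχ)).1 with h' | h' <;> rw [h'] <;> norm_num] at h1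
      simpa [add_comm] using h1
    refine ⟨θ, c, c χ₀, 0, c χ₀,
      { inj := fun J J' _ => Subsingleton.elim J J'
        mem := fun _ => hχ₀
        card_X := ?_
        sign := fun χ hχ => (hpm χ hχ.1).1
        value_X := fun χ hχ => (hpm χ hχ.1).2
        sign_Y := (hpm χ₀ hχ₀).1
        s_eq := by ring
        value_Y := fun J i hi => ?_
        same := fun _ _ _ _ => rfl
        relation := fun J y hy => ?_ }⟩
    · rw [hrange, hcardX, Finset.card_sdiff_of_subset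
        (Finset.singleton_subset_iff.2 ((hmkB _).2 hχ₀)), Finset.card_singleton]
      show BF.card - 1 = e
      omega
    · have h1 := sum_sS (S := S) hζ hi
      rw [Fintype.sum_subsingleton _ J] at h1
      show dd D φ χ₀ i = _
      rw [(hpm χ₀ hχ₀).2 i hi, h1]
      push_cast; ring
    · have h1 := hreg 1 y hy
      rw [← Finset.sum_sdiff (Finset.singleton_subset_iff.2 ((hmkB _).2 hχ₀)),
        Finset.sum_singleton] at h1
      rw [hrange, hfin]
      exact h1
  · -- exceptional characters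
    set V : (ZMod p)ˣ ⧸ S → Cfsg.IrrCharacter G → ℤ := fun J χ =>
      if χ ∈ BF then a χ (J.out : (ZMod p)ˣ) else 0
    have hsum_if : ∀ F : Cfsg.IrrCharacter G → ℤ,
        ∑ χ, (if χ ∈ BF then F χ else 0) = ∑ χ ∈ BF, F χ := fun F => by
      rw [Finset.sum_ite_mem, Finset.univ_inter]
    have hVG : ∀ J J', ∑ χ, V J χ * V J' χ = (if J = J' then 1 else 0) + (e : ℤ) := by
      intro J J'
      rw [Finset.sum_congr rfl fun χ _ => show V J χ * V J' χ =
        if χ ∈ BF then a χ (J.out : (ZMod p)ˣ) * a χ (J'.out : (ZMod p)ˣ) else 0 by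
          simp only [V]; split_ifs <;> simp, hsum_if, hgram]
      congr 1
      refine if_congr ?_ rfl rfl
      conv_rhs => rw [← QuotientGroup.out_eq' J, ← QuotientGroup.out_eq' J', QuotientGroup.eq]
      rw [← S.inv_mem_iff, mul_inv_rev, inv_inv, mul_comm]
    have hV0 : ∀ J, ∑ χ, V J χ * (Cfsg.charDegree (χ : G → ℂ) : ℤ) = 0 := by
      intro J
      rw [Finset.sum_congr rfl fun χ _ => show V J χ * (Cfsg.charDegree (χ : G → ℂ) : ℤ) =
        if χ ∈ BF then a χ (J.out : (ZMod p)ˣ) * (Cfsg.charDegree (χ : G → ℂ) : ℤ) else 0 by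
          simp only [V]; split_ifs <;> simp, hsum_if]
      have h1 := hreg (J.out : (ZMod p)ˣ) 1 (by simp [hp.ne_one])
      simp only [← charDegree_cast] at h1
      exact_mod_cast h1
    obtain ⟨θ, c, ε, hinj, hε, hVe, hcθ, hnorm⟩ := exists_star V (e : ℤ) hVG
      (fun χ => Cfsg.charDegree (χ : G → ℂ)) charDegree_pos hV0 hr2
    have hθB : ∀ J, θ J ∈ BF := by
      intro J
      by_contra hn
      obtain ⟨J', hJ'⟩ := Fintype.exists_ne_of_one_lt_card
        (show 1 < Fintype.card ((ZMod p)ˣ ⧸ S) by omega) J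
      have h1 := hVe J (θ J)
      have h2 := hVe J' (θ J)
      simp only [V, if_neg hn, if_true] at h1 h2
      rw [if_neg fun e => hJ' (hinj e).symm] at h2
      omega
    set J₀ : (ZMod p)ˣ ⧸ S := ((1 : (ZMod p)ˣ) : (ZMod p)ˣ ⧸ S)
    have haθ : ∀ χ ∈ BF, ∀ j : (ZMod p)ˣ,
        a χ j = c χ + if χ = θ (j : (ZMod p)ˣ ⧸ S) then ε else 0 := by
      intro χ hχ j
      have h1 := hVe (j : (ZMod p)ˣ ⧸ S) χ
      simp only [V, if_pos hχ] at h1
      rw [← h1]
      exact hclass χ _ _ (QuotientGroup.out_eq' _).symm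
    set Y := Finset.univ.image θ with hY
    have hrange : Set.range θ = ↑Y := by simp [Y]
    have hYB : Y ⊆ BF := Finset.image_subset_iff.2 fun J _ => hθB J
    have hXc : ∀ χ ∈ BF \ Y, ∀ j : (ZMod p)ˣ, a χ j = c χ := fun χ hχ j => by
      rw [haθ χ (Finset.mem_sdiff.1 hχ).1 j, if_neg fun e => (Finset.mem_sdiff.1 hχ).2
        (Finset.mem_image.2 ⟨_, Finset.mem_univ _, e.symm⟩), add_zero]
    have hX : ∀ χ ∈ BF \ Y, (c χ = 1 ∨ c χ = -1) ∧
        ∀ i : ZMod p, i ≠ 0 → dd D φ χ i = ((-c χ : ℤ) : ℂ) := fun χ hχ =>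
      hconst χ ((hmkB χ).1 (Finset.mem_sdiff.1 hχ).1) _ (hXc χ hχ)
    set c₀ := c (θ J₀)
    have hθval : ∀ J, ∀ i : ZMod p, i ≠ 0 →
        dd D φ (θ J) i = -(c₀ : ℂ) + (ε : ℂ) * sS ζ J i := by
      intro J i hi
      rw [hval _ i hi, Finset.sum_congr rfl fun j _ => by
        rw [haθ _ (hθB J) j, Int.cast_add, add_mul, hcθ J J₀, apply_ite (fun z : ℤ => (z : ℂ)),
          Int.cast_zero], Finset.sum_add_distrib, ← Finset.mul_sum, sum_units_zexp hζ hi]
      simp only [sS, hinj.eq_iff, eq_comm (a := J), Finset.mul_sum, mul_ite, mul_zero, ite_mul,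
        zero_mul]
      ring
    have hz : ∀ J, ∀ y : G, ¬ p ∣ orderOf y →
        ∑ χ ∈ BF, (c χ : ℂ) * (χ : G → ℂ) y + (ε : ℂ) * (θ J : G → ℂ) y = 0 := by
      intro J y hy
      have h1 := hreg (J.out : (ZMod p)ˣ) y hy
      rw [Finset.sum_congr rfl fun χ hχ => by
        rw [haθ χ hχ _, QuotientGroup.out_eq', Int.cast_add, add_mul,
          apply_ite (fun z : ℤ => (z : ℂ)), Int.cast_zero, ite_mul, zero_mul],
        Finset.sum_add_distrib, Finset.sum_ite_eq', if_pos (hθB J)] at h1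
      exact h1
    have hsame : ∀ J J', ∀ y : G, ¬ p ∣ orderOf y → (θ J : G → ℂ) y = (θ J' : G → ℂ) y := by
      intro J J' y hy
      refine mul_left_cancel₀ (show (ε : ℂ) ≠ 0 by rcases hε with h' | h' <;> simp [h']) ?_
      linear_combination hz J y hy - hz J' y hy
    have hΘ : ∀ i : ZMod p, i ≠ 0 →
        ∑ J, dd D φ (θ J) i = ((-((r : ℤ) * c₀ + ε) : ℤ) : ℂ) := by
      intro i hi
      rw [Finset.sum_congr rfl fun J _ => hθval J i hi, Finset.sum_add_distrib, Finset.sum_const,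
        Finset.card_univ, ← hrdef, ← Finset.mul_sum, sum_sS hζ hi]
      push_cast; ring
    -- the bound
    have hb : |(r : ℤ) * c₀ + ε| ≤ 1 := by
      rw [← abs_neg]
      set eq := Fintype.equivFin ((ZMod p)ˣ ⧸ S)
      refine abs_sum_dd_le_one D hM hB hBP hind (θ ∘ eq.symm) (eq J₀) _
        (hinj.comp eq.symm.injective)
        (fun j => (hmkB _).1 (hθB _)) (fun j y hy => hsame _ _ y hy) (fun j => ?_) fun i hi => ?_
      · refine ⟨(eq.symm j).out, fun i hi => ?_⟩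
        simp only [Function.comp_apply, Equiv.symm_apply_apply]
        rw [hθval _ i hi, hθval _ _ (mul_ne_zero (Units.ne_zero _) hi), sS_mul,
          QuotientGroup.out_eq', show eq.symm j * J₀ = eq.symm j from mul_one _]
      · exact (eq.symm.sum_comp fun J => dd D φ (θ J) i).trans (hΘ i hi)
    have hs0 : (r : ℤ) * c₀ + ε ≠ 0 := by
      intro h'
      have h1 : (r : ℤ) ∣ 1 := by
        rcases hε with h'' | h''
        · exact ⟨-c₀, by rw [h''] at h'; linarith⟩
        · exact ⟨c₀, by rw [h''] at h'; linarith⟩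
      have := Int.le_of_dvd one_pos h1
      omega
    set s := (r : ℤ) * c₀ + ε with hs_def
    have hs : s = 1 ∨ s = -1 := by rw [abs_le] at hb; omega
    have hrc : (r : ℤ) * (c₀ * c₀) + 2 * ε * c₀ = 0 := by
      have h1 : s * s = 1 := by rcases hs with h' | h' <;> rw [h'] <;> norm_num
      have h2 : ε * ε = 1 := by rcases hε with h' | h' <;> rw [h'] <;> norm_num
      have h3 : (r : ℤ) * ((r : ℤ) * (c₀ * c₀) + 2 * ε * c₀) = 0 := by
        linear_combination h1 - h2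
      exact (mul_eq_zero.1 h3).resolve_left (by omega)
    have hXmem : ∀ {χ}, χ ∈ B \ Set.range θ → χ ∈ BF \ Y := fun {χ} hχ => by
      rw [hrange] at hχ
      exact Finset.mem_sdiff.2 ⟨(hmkB χ).2 hχ.1, hχ.2⟩
    refine ⟨θ, c, s, c₀, ε,
      { inj := hinj
        mem := fun J => (hmkB _).1 (hθB J)
        card_X := ?_
        sign := fun χ hχ => (hX χ (hXmem hχ)).1
        value_X := fun χ hχ => (hX χ (hXmem hχ)).2
        sign_Y := hs
        s_eq := by rw [Nat.card_eq_fintype_card]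
        value_Y := hθval
        same := hsame
        relation := fun J y hy => ?_ }⟩
    · rw [hrange, hcardX]
      have h1 := hnorm J₀
      have hc0 : ∀ χ, χ ∉ BF → c χ = 0 := fun χ hχ => by
        have h' := hVe J₀ χ
        simp only [V, if_neg hχ] at h'
        rw [if_neg fun he' : χ = θ J₀ => hχ (by rw [he']; exact hθB J₀), add_zero] at h'
        exact h'.symm
      rw [← Finset.sum_subset (Finset.subset_univ BF) (fun χ _ hχ => by rw [hc0 χ hχ, zero_mul]),
        ← Finset.sum_sdiff hYB,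
        Finset.sum_congr rfl (g := fun _ => (1 : ℤ)) (fun χ hχ => by
          rcases (hX χ hχ).1 with h' | h' <;> rw [h'] <;> norm_num),
        Finset.sum_image hinj.injOn, Finset.sum_congr rfl
          fun (J : (ZMod p)ˣ ⧸ S) _ => show c (θ J) * c (θ J) = c₀ * c₀ by rw [hcθ J J₀],
        Finset.sum_const, Finset.sum_const, Finset.card_univ, ← hrdef, nsmul_one, nsmul_eq_mul] at h1
      have h2 : ((BF \ Y).card : ℤ) = e := by linear_combination h1 - hrc
      exact_mod_cast h2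
    · rw [hrange, hfin]
      have h1 := hz J y hy
      rw [← Finset.sum_sdiff hYB, Finset.sum_image hinj.injOn, Finset.sum_congr rfl
        fun (J' : (ZMod p)ˣ ⧸ S) _ => show (c (θ J') : ℂ) * (θ J' : G → ℂ) y =
          (c₀ : ℂ) * (θ J : G → ℂ) y by rw [hcθ J' J₀, hsame J' J y hy],
        Finset.sum_const, Finset.card_univ, ← hrdef, nsmul_eq_mul] at h1
      rw [hs_def]
      push_cast
      linear_combination h1

end Cfsg.Agent.Blocks.PrimeBlock
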