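import Mathlib
import Cfsg.Agent.Lib.Blocks.PrimeBlock.Main

/-!
# Degrees in a block with a defect group of order `p`
-/

set_option linter.style.haveILetI false
set_option linter.unusedSectionVars false

namespace Cfsg.Agent.Blocks.PrimeBlock

open Cfsg.Agent.Characters Cfsg.Agent.Blocks
open scoped ComplexConjugate

universe u

variable {G : Type u} [Group G] [Finite G] {p : ℕ} [Fact p.Prime] {M : Ideal Cfsg.AlgInt}
  {P : Sylow p G} {g : G} {K : Subgroup G} {h : G} {u : (ZMod p)ˣ} [Fintype K]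
  (D : PrimeData p P g K h u)

local notation "CP" => Subgroup.centralizer (((P : Subgroup G)) : Set G)

local notation "NP" => Subgroup.normalizer (((P : Subgroup G)) : Set G)

include D in
theorem deg_cong (hM : Cfsg.IsPModular p M) (χ : Cfsg.IrrCharacter G) :
    Cong M ((χ : G → ℂ) g) (Cfsg.charDegree (χ : G → ℂ) : ℂ) := by
  have hp : p.Prime := Fact.out
  have h1 := char_cong_of_commute hM χ (Commute.one_right g) (k := 1)
    (by rw [pow_one]; simpa [D.order] using pow_orderOf_eq_one g)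
    (show ¬ p ∣ orderOf (1 : G) by simp [hp.ne_one])
  rw [mul_one, ← charDegree_cast χ] at h1
  exact h1

theorem modEq_of_cong (hM : Cfsg.IsPModular p M) {a b : ℤ} (hc : Cong M (a : ℂ) (b : ℂ)) :
    a ≡ b [ZMOD p] := by
  rw [Int.modEq_iff_dvd, ← dvd_neg, neg_sub]
  refine (ideal_intCast_iff hM _).1 ?_
  push_cast
  exact hc

variable {B : Set (Cfsg.IrrCharacter G)} {φ : Cfsg.IrrCharacter K} {ζ : ℂ}
  {θ : (ZMod p)ˣ ⧸ sgp D φ → Cfsg.IrrCharacter G} {c : Cfsg.IrrCharacter G → ℤ} {s c₀ ε : ℤ}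

theorem deg_modEq_X (hM : Cfsg.IsPModular p M) (hB : Cfsg.IsPBlock M B)
    (hBP : Cfsg.IsDefectGroup p M B (P : Subgroup G))
    (hind : Cfsg.IsInducedBlock M CP (bl D M φ) B) (hd : BlockData D B φ ζ θ c s c₀ ε)
    {χ : Cfsg.IrrCharacter G} (hχ : χ ∈ B \ Set.range θ) :
    (Cfsg.charDegree (χ : G → ℂ) : ℤ) ≡
      -c χ * ((orb D φ).card * Cfsg.charDegree (φ : K → ℂ) : ℕ) [ZMOD p] := by
  refine (modEq_of_cong hM (cong_trans hM (cong_of_eq hM ?_) (deg_cong D hM χ))).symm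
  rw [value_g D hM hB hBP hind hχ.1,
    Finset.sum_congr rfl fun φ' _ => hd.value_X χ hχ _ (Units.ne_zero _), Finset.sum_const,
    ← charDegree_cast φ, nsmul_eq_mul]
  push_cast; ring

theorem same_degree (hd : BlockData D B φ ζ θ c s c₀ ε) (J J' : (ZMod p)ˣ ⧸ sgp D φ) :
    Cfsg.charDegree (θ J : G → ℂ) = Cfsg.charDegree (θ J' : G → ℂ) := by
  refine Nat.cast_injective (R := ℂ) ?_
  rw [charDegree_cast, charDegree_cast]
  exact hd.same J J' 1 (by simp [(Fact.out : p.Prime).ne_one])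

theorem deg_modEq_Y (hζ : IsPrimitiveRoot ζ p) (hM : Cfsg.IsPModular p M) (hB : Cfsg.IsPBlock M B)
    (hBP : Cfsg.IsDefectGroup p M B (P : Subgroup G))
    (hind : Cfsg.IsInducedBlock M CP (bl D M φ) B) (hd : BlockData D B φ ζ θ c s c₀ ε)
    (J : (ZMod p)ˣ ⧸ sgp D φ) :
    (Cfsg.charDegree (θ J : G → ℂ) : ℤ) ≡
      s * (orderOf u * Cfsg.charDegree (φ : K → ℂ) : ℕ) [ZMOD p] := by
  classical
  haveI := Fintype.ofFinite ((ZMod p)ˣ ⧸ sgp D φ)
  have hp : p.Prime := Fact.out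
  set r := Fintype.card ((ZMod p)ˣ ⧸ sgp D φ) with hr
  have hsum : ∑ J' : (ZMod p)ˣ ⧸ sgp D φ, (θ J' : G → ℂ) g =
      ((-s * ((orb D φ).card * Cfsg.charDegree (φ : K → ℂ) : ℕ) : ℤ) : ℂ) := by
    rw [Finset.sum_congr rfl fun J' _ => value_g D hM hB hBP hind (hd.mem J'), ← Finset.mul_sum,
      Finset.sum_comm, Finset.sum_congr rfl fun φ' _ => show
        ∑ J' : (ZMod p)ˣ ⧸ sgp D φ, dd D φ (θ J') (worb D φ φ' : ZMod p) = ((-s : ℤ) : ℂ) by
        rw [Finset.sum_congr rfl fun J' _ => hd.value_Y J' _ (Units.ne_zero _),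
          Finset.sum_add_distrib, ← Finset.mul_sum, sum_sS hζ (Units.ne_zero _), Finset.sum_const,
          Finset.card_univ, hd.s_eq, Nat.card_eq_fintype_card, nsmul_eq_mul]
        push_cast; ring, Finset.sum_const, ← charDegree_cast φ, nsmul_eq_mul]
    push_cast; ring
  have h1 : Cong M ((-s * ((orb D φ).card * Cfsg.charDegree (φ : K → ℂ) : ℕ) : ℤ) : ℂ)
      (((r * Cfsg.charDegree (θ J : G → ℂ) : ℕ) : ℤ) : ℂ) := by
    rw [← hsum, Int.cast_natCast, hr, ← Finset.card_univ, ← smul_eq_mul, ← Finset.sum_const,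
      Nat.cast_sum]
    refine cong_sum hM fun J' _ => ?_
    rw [same_degree D hd J J']
    exact deg_cong D hM (θ J')
  obtain ⟨d, hdd⟩ := Int.modEq_iff_dvd.1 (modEq_of_cong hM h1)
  have hre : r * Nat.card (sgp D φ) = p - 1 := by
    rw [hr, ← Nat.card_eq_fintype_card, ← Subgroup.index, Subgroup.index_mul_card,
      Nat.card_eq_fintype_card, ZMod.card_units]
  have h3 : (r : ℤ) * Nat.card (sgp D φ) = (p : ℤ) - 1 := by
    have := congrArg (fun n : ℕ => (n : ℤ)) hre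
    push_cast [Nat.cast_sub hp.one_le] at this
    exact this
  rw [← card_orb_mul D φ, Int.modEq_iff_dvd]
  refine ⟨(Nat.card (sgp D φ) : ℤ) * d - Cfsg.charDegree (θ J : G → ℂ), ?_⟩
  push_cast at hdd ⊢
  linear_combination (Nat.card (sgp D φ) : ℤ) * hdd +
    (-(Cfsg.charDegree (θ J : G → ℂ) : ℤ)) * h3

theorem card_block (hd : BlockData D B φ ζ θ c s c₀ ε) :
    Nat.card B = Nat.card (sgp D φ) + (p - 1) / Nat.card (sgp D φ) := by
  have hsub : Set.range θ ⊆ B := by rintro _ ⟨J, rfl⟩; exact hd.mem J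
  have h1 : Nat.card B = Nat.card (B \ Set.range θ : Set (Cfsg.IrrCharacter G)) +
      Nat.card (Set.range θ) := by
    rw [Nat.card_coe_set_eq, Nat.card_coe_set_eq, Nat.card_coe_set_eq,
      Set.ncard_sdiff_add_ncard_of_subset hsub]
  rw [h1, hd.card_X, Nat.card_congr (Equiv.ofInjective θ hd.inj).symm]
  congr 1
  rw [← Subgroup.index, ← ZMod.card_units p, ← Nat.card_eq_fintype_card,
    ← (sgp D φ).index_mul_card, Nat.mul_div_cancel _ Nat.card_pos]

theorem card_range (hd : BlockData D B φ ζ θ c s c₀ ε) :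
    Nat.card (Set.range θ) = (p - 1) / Nat.card (sgp D φ) := by
  rw [Nat.card_congr (Equiv.ofInjective θ hd.inj).symm,
    ← Subgroup.index, ← ZMod.card_units p, ← Nat.card_eq_fintype_card,
    ← (sgp D φ).index_mul_card, Nat.mul_div_cancel _ Nat.card_pos]

end Cfsg.Agent.Blocks.PrimeBlock
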