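import Mathlib
import Cfsg.Agent.Lib.Blocks.PrimeBlock.Degrees
import Cfsg.Agent.BlockCharsA.AlgAut

/-!
# Galois action on a block with a defect group of order `p`
-/

set_option linter.style.haveILetI false
set_option linter.unusedSectionVars false

namespace Cfsg.Agent.Blocks.PrimeBlock

open Cfsg.Agent.Characters Cfsg.Agent.Blocks
open scoped ComplexConjugate

universe u

variable {G : Type u} [Group G] [Finite G] {p : ℕ} [Fact p.Prime] {M : Ideal Cfsg.AlgInt}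
  {P : Sylow p G} {g : G} {K : Subgroup G} {h : G} {u : (ZMod p)ˣ} [Fintype K]
  (D : PrimeData p P g K h u)

local notation "CP" => Subgroup.centralizer (((P : Subgroup G)) : Set G)

theorem aut_fix_cycAlg {η : ℂ} {σ : ℂ ≃+* ℂ} (hσ : σ η = η) {z : ℂ} (hz : z ∈ cycAlg η) :
    σ z = z := by
  induction hz using Algebra.adjoin_induction with
  | mem z hz => obtain rfl := Set.mem_singleton_iff.1 hz; exact hσ
  | algebraMap z => simp
  | add z z' _ _ hz hz' => rw [map_add, hz, hz']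
  | mul z z' _ _ hz hz' => rw [map_mul, hz, hz']

include D in
theorem index_eq_div : (P : Subgroup G).index = Nat.card G / p ^ (Nat.card G).factorization p := by
  rw [D.factorization_card, pow_one, ← (P : Subgroup G).index_mul_card, D.card_sylow,
    Nat.mul_div_cancel _ (Fact.out : p.Prime).pos]

include D in
theorem orderOf_dvd_index {y : G} (hy : ¬ p ∣ orderOf y) :
    orderOf y ∣ (P : Subgroup G).index := by
  refine Nat.Coprime.dvd_of_dvd_mul_right (((Fact.out : p.Prime).coprime_iff_not_dvd.2 hy).symm) ?_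
  have h1 := orderOf_dvd_natCard y
  rw [← (P : Subgroup G).index_mul_card, D.card_sylow] at h1
  exact h1

include D in
theorem aut_fix_regular {η : ℂ} (hη : IsPrimitiveRoot η (P : Subgroup G).index) {σ : ℂ ≃+* ℂ}
    (hσ : σ η = η) (χ : Cfsg.IrrCharacter G) {y : G} (hy : ¬ p ∣ orderOf y) :
    σ ((χ : G → ℂ) y) = (χ : G → ℂ) y := by
  haveI : NeZero (P : Subgroup G).index := ⟨Subgroup.index_ne_zero_of_finite⟩
  exact aut_fix_cycAlg hσ (value_mem_cycAlg χ hη (orderOf_dvd_index D hy))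

include D in
theorem aut_fix_K {η : ℂ} (hη : IsPrimitiveRoot η (P : Subgroup G).index) {σ : ℂ ≃+* ℂ}
    (hσ : σ η = η) (φ : Cfsg.IrrCharacter K) (k : K) : σ ((φ : K → ℂ) k) = (φ : K → ℂ) k := by
  haveI : NeZero (P : Subgroup G).index := ⟨Subgroup.index_ne_zero_of_finite⟩
  exact aut_fix_cycAlg hσ (value_mem_cycAlg φ hη (by
    rw [← Subgroup.orderOf_coe]; exact orderOf_dvd_index D ((D.mem_iff _).1 k.2).1))

variable {B : Set (Cfsg.IrrCharacter G)} {φ : Cfsg.IrrCharacter K}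

/-- Two characters of `B` related on the sections and on regular elements by `σ`. -/
theorem aut_eq_of (hM : Cfsg.IsPModular p M) (hB : Cfsg.IsPBlock M B)
    (hBP : Cfsg.IsDefectGroup p M B (P : Subgroup G))
    (hind : Cfsg.IsInducedBlock M CP (bl D M φ) B) {η : ℂ}
    (hη : IsPrimitiveRoot η (P : Subgroup G).index) {σ : ℂ ≃+* ℂ} (hσ : σ η = η)
    {χ ψ : Cfsg.IrrCharacter G} (hχ : χ ∈ B) (hψ : ψ ∈ B)
    (hreg : ∀ y : G, ¬ p ∣ orderOf y → (χ : G → ℂ) y = (ψ : G → ℂ) y)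
    (hsec : ∀ i : ZMod p, i ≠ 0 → σ (dd D φ χ i) = dd D φ ψ i) :
    (ψ : G → ℂ) = fun x => σ ((χ : G → ℂ) x) := by
  funext x
  rcases D.regular_or_conj x with hx | ⟨i, hi, k, hk, hc⟩
  · rw [aut_fix_regular D hη hσ χ hx, hreg x hx]
  · obtain ⟨c, hc⟩ := isConj_iff.1 hc
    have hi0 : (i : ZMod p) ≠ 0 := fun h' => hi ((ZMod.natCast_eq_zero_iff _ _).1 h')
    rw [← irr_isClassFunction ψ x c, ← irr_isClassFunction χ x c, hc,
      pow_eq_of_natCast D.order (ZMod.natCast_rightInverse (i : ZMod p)).symm,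
      value_orbit D hM hB hBP hind hψ hi0 ⟨k, hk⟩, value_orbit D hM hB hBP hind hχ hi0 ⟨k, hk⟩,
      map_sum]
    exact Finset.sum_congr rfl fun φ' _ => by
      rw [map_mul, aut_fix_K D hη hσ φ' ⟨k, hk⟩, hsec _ (mul_ne_zero (Units.ne_zero _) hi0)]

theorem aut_zexp {ζ : ℂ} (hζ : IsPrimitiveRoot ζ p) {σ : ℂ ≃+* ℂ} {w : (ZMod p)ˣ}
    (hw : σ ζ = ζ ^ (w : ZMod p).val) (z : ZMod p) :
    σ (zexp ζ z) = zexp ζ ((w : ZMod p) * z) := by
  rw [zexp, map_pow, hw, zexp, ← pow_mul, ZMod.val_mul, ← pow_eq_pow_mod _ hζ.pow_eq_one]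

theorem exists_weight_of_aut {ζ : ℂ} (hζ : IsPrimitiveRoot ζ p) (σ : ℂ ≃+* ℂ) :
    ∃ w : (ZMod p)ˣ, σ ζ = ζ ^ (w : ZMod p).val := by
  have hprim : IsPrimitiveRoot (σ ζ) p := hζ.map_of_injective (f := σ) σ.injective
  obtain ⟨n, hn, hn'⟩ := hζ.eq_pow_of_pow_eq_one hprim.pow_eq_one
  have hn0 : (n : ZMod p) ≠ 0 := fun h0 => by
    rw [ZMod.natCast_eq_zero_iff] at h0
    rw [Nat.eq_zero_of_dvd_of_lt h0 hn, pow_zero] at hn'
    exact hprim.ne_one (Fact.out : p.Prime).one_lt hn'.symm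
  exact ⟨Units.mk0 _ hn0, by rw [Units.val_mk0, ZMod.val_natCast_of_lt hn, hn']⟩

variable {ζ : ℂ}
  {θ : (ZMod p)ˣ ⧸ sgp D φ → Cfsg.IrrCharacter G} {c : Cfsg.IrrCharacter G → ℤ} {s c₀ ε : ℤ}

/-- The non-exceptional characters are fixed. -/
theorem aut_X (hM : Cfsg.IsPModular p M) (hB : Cfsg.IsPBlock M B)
    (hBP : Cfsg.IsDefectGroup p M B (P : Subgroup G))
    (hind : Cfsg.IsInducedBlock M CP (bl D M φ) B) (hd : BlockData D B φ ζ θ c s c₀ ε) {η : ℂ}
    (hη : IsPrimitiveRoot η (P : Subgroup G).index) {σ : ℂ ≃+* ℂ} (hσ : σ η = η)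
    {χ : Cfsg.IrrCharacter G} (hχ : χ ∈ B \ Set.range θ) :
    (χ : G → ℂ) = fun x => σ ((χ : G → ℂ) x) :=
  aut_eq_of D hM hB hBP hind hη hσ hχ.1 hχ.1 (fun _ _ => rfl) fun i hi => by
    rw [hd.value_X χ hχ i hi, map_intCast]

/-- The exceptional characters are permuted by multiplication. -/
theorem aut_Y (hM : Cfsg.IsPModular p M) (hB : Cfsg.IsPBlock M B)
    (hBP : Cfsg.IsDefectGroup p M B (P : Subgroup G))
    (hind : Cfsg.IsInducedBlock M CP (bl D M φ) B) (hζ : IsPrimitiveRoot ζ p)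
    (hd : BlockData D B φ ζ θ c s c₀ ε) {η : ℂ}
    (hη : IsPrimitiveRoot η (P : Subgroup G).index) {σ : ℂ ≃+* ℂ} (hσ : σ η = η) {w : (ZMod p)ˣ}
    (hw : σ ζ = ζ ^ (w : ZMod p).val) (J : (ZMod p)ˣ ⧸ sgp D φ) :
    (θ ((w : (ZMod p)ˣ ⧸ sgp D φ) * J) : G → ℂ) = fun x => σ ((θ J : G → ℂ) x) := by
  refine aut_eq_of D hM hB hBP hind hη hσ (hd.mem _) (hd.mem _) (hd.same _ _) fun i hi => ?_
  rw [hd.value_Y J i hi, hd.value_Y _ i hi, ← sS_mul, map_add, map_neg, map_mul, map_intCast,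
    map_intCast]
  congr 2
  simp only [sS, map_sum, apply_ite σ, map_zero, aut_zexp hζ hw, mul_assoc]

include D in
/-- Automorphisms with a prescribed weight exist. -/
theorem exists_aut_weight : ∃ ζ : ℂ, IsPrimitiveRoot ζ p ∧ ∀ w : (ZMod p)ˣ, ∃ σ : ℂ ≃+* ℂ,
    σ (Complex.exp (2 * Real.pi * Complex.I / ((P : Subgroup G).index : ℂ))) =
      Complex.exp (2 * Real.pi * Complex.I / ((P : Subgroup G).index : ℂ)) ∧
    σ ζ = ζ ^ (w : ZMod p).val := by
  have hp : p.Prime := Fact.out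
  set m := (P : Subgroup G).index with hm_def
  have hm : ¬ p ∣ m := P.not_dvd_index
  have hm0 : m ≠ 0 := Subgroup.index_ne_zero_of_finite
  haveI : NeZero (m * p) := ⟨Nat.mul_ne_zero hm0 hp.ne_zero⟩
  set ξ := Complex.exp (2 * Real.pi * Complex.I / ((m * p : ℕ) : ℂ)) with hξdef
  have hξ : IsPrimitiveRoot ξ (m * p) := Complex.isPrimitiveRoot_exp _ (NeZero.ne _)
  have hη : ξ ^ p = Complex.exp (2 * Real.pi * Complex.I / (m : ℂ)) := by
    rw [hξdef, ← Complex.exp_nat_mul]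
    congr 1
    have hp0 : (p : ℂ) ≠ 0 := Nat.cast_ne_zero.2 hp.ne_zero
    push_cast
    field_simp
  refine ⟨ξ ^ m, hξ.pow (Nat.pos_of_ne_zero (NeZero.ne _)) rfl, fun w => ?_⟩
  obtain ⟨W, hW1, hW2⟩ := Nat.chineseRemainder
    ((hp.coprime_iff_not_dvd.2 hm).symm) 1 (w : ZMod p).val
  have hWcop : W.Coprime (m * p) := Nat.Coprime.mul_right
    (show Nat.gcd W m = 1 by rw [hW1.gcd_eq]; exact Nat.gcd_one_left m)
    (show Nat.gcd W p = 1 by rw [hW2.gcd_eq]; exact ZMod.val_coe_unit_coprime w)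
  obtain ⟨σ, hσ⟩ := Cfsg.Agent.BlockCharsA.AlgAut.exists_aut hξ (ZMod.unitOfCoprime W hWcop)
  rw [ZMod.coe_unitOfCoprime, ZMod.val_natCast, ← pow_eq_pow_mod _ hξ.pow_eq_one] at hσ
  have hη' : IsPrimitiveRoot (ξ ^ p) m :=
    hξ.pow (Nat.pos_of_ne_zero (NeZero.ne _)) (mul_comm m p)
  have hζ' : IsPrimitiveRoot (ξ ^ m) p := hξ.pow (Nat.pos_of_ne_zero (NeZero.ne _)) rfl
  refine ⟨σ, ?_, ?_⟩
  · rw [← hη, map_pow, hσ, ← pow_mul, mul_comm, pow_mul, pow_eq_pow_mod W hη'.pow_eq_one,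
      show W % m = 1 % m from hW1, ← pow_eq_pow_mod 1 hη'.pow_eq_one, pow_one]
  · rw [map_pow, hσ, ← pow_mul, mul_comm, pow_mul, pow_eq_pow_mod W hζ'.pow_eq_one,
      show W % p = (w : ZMod p).val % p from hW2, ← pow_eq_pow_mod _ hζ'.pow_eq_one]

include D in
/-- A block of positive defect has defect group `P`. -/
theorem exists_full (hM : Cfsg.IsPModular p M) (hB : Cfsg.IsPBlock M B)
    (hd : 0 < Cfsg.blockDefect p B) :
    Cfsg.IsDefectGroup p M B (P : Subgroup G) ∧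
      ∃ φ : Cfsg.IrrCharacter K, Cfsg.IsInducedBlock M CP (bl D M φ) B := by
  have hPC : (P : Subgroup G) ≤ CP := by
    have := sup_centralizer_eq D; rwa [sup_eq_right] at this
  obtain ⟨E, hE⟩ := exists_defectGroup hM hB
  have hle : Cfsg.blockDefect p B ≤ 1 := D.factorization_card ▸ blockDefect_le p B
  have hcard : Nat.card E = p := by
    rw [card_defectGroup hM hB hE, show Cfsg.blockDefect p B = 1 by omega, pow_one]
  obtain ⟨Q, hQ⟩ := (isPGroup_defect hE).exists_le_sylow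
  have hEQ : E = (Q : Subgroup G) := eq_of_le_of_card_le hQ (le_of_eq (by
    rw [hcard, Q.card_eq_multiplicity, D.factorization_card, pow_one]))
  obtain ⟨x, hx⟩ := MulAction.exists_smul_eq G Q P
  have hP' : E.map (MulAut.conj x).toMonoidHom = (P : Subgroup G) := by rw [hEQ, ← hx]; rfl
  refine ⟨hP' ▸ defectGroup_conj hM hE x, ?_⟩
  obtain ⟨b, hb⟩ := (exists_induced_iff hM P.isPGroup' hPC le_rfl
    (Subgroup.centralizer_le_normalizer _) hB hE).2 ⟨x, hP'.ge⟩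
  obtain ⟨ψ, hψ⟩ := block_nonempty hM hb.1
  exact ⟨resK D ψ, (bl_resK D hM hb.1 hψ) ▸ hb⟩

end Cfsg.Agent.Blocks.PrimeBlock
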