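import Mathlib
import Cfsg.Agent.Lib.Blocks.PrimeBlock.Galois
import Cfsg.Agent.Lib.CharTheory.Ito

/-!
# Counting characters of degree prime to `p`
-/

set_option linter.style.haveILetI false
set_option linter.unusedSectionVars false

namespace Cfsg.Agent.Blocks.PrimeBlock

open Cfsg.Agent.Characters Cfsg.Agent.Blocks
open scoped ComplexConjugate

universe u

variable {G : Type u} [Group G] [Finite G] {p : ℕ} [Fact p.Prime] {M : Ideal Cfsg.AlgInt}
  {P : Sylow p G} {g : G} {K : Subgroup G} {h : G} {u : (ZMod p)ˣ} [Fintype K]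
  (D : PrimeData p P g K h u)

local notation "CP" => Subgroup.centralizer (((P : Subgroup G)) : Set G)

local notation "NP" => Subgroup.normalizer (((P : Subgroup G)) : Set G)

/-- The share of `φ` in its block. -/
noncomputable def weight (φ : Cfsg.IrrCharacter K) : ℚ :=
  ((Nat.card (sgp D φ) + (p - 1) / Nat.card (sgp D φ) : ℕ) : ℚ) / ((orb D φ).card : ℚ)

theorem induced_cjI (hM : Cfsg.IsPModular p M) {B : Set (Cfsg.IrrCharacter G)}
    (hB : Cfsg.IsPBlock M B) (hBP : Cfsg.IsDefectGroup p M B (P : Subgroup G))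
    {φ : Cfsg.IrrCharacter K} (hind : Cfsg.IsInducedBlock M CP (bl D M φ) B) (a : NP) :
    Cfsg.IsInducedBlock M CP (bl D M (cjI D a φ)) B := by
  obtain ⟨χ, hχ⟩ := block_nonempty hM hB
  obtain ⟨i, hi, hne⟩ := exists_dd_ne_zero D hM hB hBP hind hχ
  refine induced_of_dd_ne_zero D hM hB hχ (i := ((wt D a)⁻¹ : (ZMod p)ˣ) * i)
    (mul_ne_zero (Units.ne_zero _) hi) ?_
  rwa [dd_cjI, ← mul_assoc, ← Units.val_mul, mul_inv_cancel, Units.val_one, one_mul]

include D in
theorem not_dvd_card_orb (φ : Cfsg.IrrCharacter K) : ¬ p ∣ (orb D φ).card := fun hd => by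
  have h1 : p ∣ orderOf u := hd.trans (card_orb_mul D φ ▸ dvd_mul_left _ _)
  have h2 := h1.trans (ZMod.orderOf_units_dvd_card_sub_one u)
  have hp2 := (Fact.out : p.Prime).two_le
  exact absurd (Nat.le_of_dvd (by omega) h2) (by omega)

include D in
theorem not_dvd_degree_K (φ : Cfsg.IrrCharacter K) : ¬ p ∣ Cfsg.charDegree (φ : K → ℂ) :=
  fun hd => D.not_dvd (hd.trans (char_degree_dvd_card φ))

/-- Members of a block with defect group `P` have degree prime to `p`. -/
theorem not_dvd_degree (hM : Cfsg.IsPModular p M) {B : Set (Cfsg.IrrCharacter G)}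
    (hB : Cfsg.IsPBlock M B) (hBP : Cfsg.IsDefectGroup p M B (P : Subgroup G))
    {φ : Cfsg.IrrCharacter K} (hind : Cfsg.IsInducedBlock M CP (bl D M φ) B)
    {χ : Cfsg.IrrCharacter G} (hχ : χ ∈ B) : ¬ p ∣ Cfsg.charDegree (χ : G → ℂ) := by
  have hp : p.Prime := Fact.out
  obtain ⟨ζ, hζ⟩ : ∃ ζ : ℂ, IsPrimitiveRoot ζ p :=
    ⟨_, Complex.isPrimitiveRoot_exp p (NeZero.ne p)⟩
  obtain ⟨θ, c, s, c₀, ε, hd⟩ := exists_blockData D hM hB hBP hind hζ
  intro hdvd
  have key : ∀ (sg : ℤ) (n : ℕ), (sg = 1 ∨ sg = -1) →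
      (Cfsg.charDegree (χ : G → ℂ) : ℤ) ≡ sg * n [ZMOD p] → p ∣ n := by
    intro sg n hsg hmod
    have h1 : (p : ℤ) ∣ sg * n := by
      have h2 := Int.modEq_iff_dvd.1 hmod
      have h3 : (p : ℤ) ∣ (Cfsg.charDegree (χ : G → ℂ) : ℤ) := Int.natCast_dvd_natCast.2 hdvd
      simpa using dvd_add h2 h3
    rcases hsg with rfl | rfl
    · exact Int.natCast_dvd_natCast.1 (by simpa using h1)
    · exact Int.natCast_dvd_natCast.1 (by simpa using h1)
  by_cases hY : χ ∈ Set.range θ
  · obtain ⟨J, rfl⟩ := hY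
    rcases hp.dvd_mul.1 (key s _ hd.sign_Y (deg_modEq_Y D hζ hM hB hBP hind hd J)) with h' | h'
    · have hp2 := hp.two_le
      exact absurd (Nat.le_of_dvd (by omega) (h'.trans (ZMod.orderOf_units_dvd_card_sub_one u)))
        (by omega)
    · exact not_dvd_degree_K D φ h'
  · rcases hp.dvd_mul.1 (key (-c χ) _ (by rcases hd.sign χ ⟨hχ, hY⟩ with h' | h' <;> simp [h'])
      (deg_modEq_X D hM hB hBP hind hd ⟨hχ, hY⟩)) with h' | h'
    · exact not_dvd_card_orb D φ h'
    · exact not_dvd_degree_K D φ h'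

include D in
/-- The count of characters of degree prime to `p`. -/
theorem card_pPrime_degree [Fintype (Cfsg.IrrCharacter K)] (hM : Cfsg.IsPModular p M) :
    (Nat.card {χ : Cfsg.IrrCharacter G // ¬ p ∣ Cfsg.charDegree (χ : G → ℂ)} : ℚ) =
      ∑ φ : Cfsg.IrrCharacter K, weight D φ := by
  classical
  haveI := Fintype.ofFinite (Cfsg.IrrCharacter G)
  have hp : p.Prime := Fact.out
  obtain ⟨ζ, hζ⟩ : ∃ ζ : ℂ, IsPrimitiveRoot ζ p :=
    ⟨_, Complex.isPrimitiveRoot_exp p (NeZero.ne p)⟩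
  choose F hF hFP using fun φ : Cfsg.IrrCharacter K => exists_induced D hM φ
  set FF : Cfsg.IrrCharacter K → Finset (Cfsg.IrrCharacter G) :=
    fun φ => Finset.univ.filter fun χ => χ ∈ F φ
  have hcard : ∀ φ, (FF φ).card = Nat.card (sgp D φ) + (p - 1) / Nat.card (sgp D φ) := by
    intro φ
    obtain ⟨θ, c, s, c₀, ε, hd⟩ := exists_blockData D hM (hF φ).2.1 (hFP φ) (hF φ) hζ
    rw [← card_block D hd, ← Nat.card_eq_finsetCard]
    exact Nat.card_congr (Equiv.subtypeEquivRight fun χ => by simp [FF])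
  have horb : ∀ φ φ', F φ = F φ' ↔ φ' ∈ orb D φ := by
    refine fun φ φ' => ⟨fun e => ?_, fun hm => ?_⟩
    · obtain ⟨a, ha⟩ := conj_of_induced D hM (hFP φ) (hF φ) (e.symm ▸ hF φ')
      exact (mem_orb D).2 ⟨a, ha.symm⟩
    · obtain ⟨a, rfl⟩ := (mem_orb D).1 hm
      exact isInduced_unique hM (induced_cjI D hM (hF φ).2.1 (hFP φ) (hF φ) a) (hF _)
  have hfib : ∀ φ₀, ∑ φ ∈ Finset.univ.filter (fun φ => φ ∈ orb D φ₀),
      ((orb D φ).card : ℚ)⁻¹ = 1 := by
    intro φ₀
    have hconst : ∀ φ ∈ orb D φ₀, (orb D φ).card = (orb D φ₀).card := fun φ hφ => by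
      congr 1
      ext ψ
      rw [← horb, ← horb, (horb φ₀ φ).2 hφ]
    rw [Finset.filter_mem_eq_inter, Finset.univ_inter,
      Finset.sum_congr rfl fun φ hφ => by rw [hconst φ hφ], Finset.sum_const, nsmul_eq_mul,
      mul_inv_cancel₀ (Nat.cast_ne_zero.2 (card_orb_pos D φ₀).ne')]
  have hsum : ∀ χ : Cfsg.IrrCharacter G,
      (∑ φ : Cfsg.IrrCharacter K, if χ ∈ FF φ then ((orb D φ).card : ℚ)⁻¹ else 0) =
        if ¬ p ∣ Cfsg.charDegree (χ : G → ℂ) then 1 else 0 := by
    intro χ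
    split_ifs with hdeg
    · refine Finset.sum_eq_zero fun φ _ => if_neg fun hm => ?_
      exact not_dvd_degree D hM (hF φ).2.1 (hFP φ) (hF φ) (Finset.mem_filter.1 hm).2 hdeg
    · have hB := isPBlock_blockOf M χ
      have hχ := mem_blockOf_self hM χ
      have hpos : 0 < Cfsg.blockDefect p (Cfsg.blockOf M (χ : G → ℂ)) := by
        rw [Cfsg.blockDefect, D.factorization_card]
        have h0 : sInf ((fun ψ : Cfsg.IrrCharacter G =>
            (Cfsg.charDegree (ψ : G → ℂ)).factorization p) ''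
              Cfsg.blockOf M (χ : G → ℂ)) = 0 := by
          refine Nat.le_zero.1 (Nat.sInf_le ⟨χ, hχ, ?_⟩)
          exact Nat.factorization_eq_zero_of_not_dvd hdeg
        omega
      obtain ⟨hBP, φ₀, hind⟩ := exists_full D hM hB hpos
      have hF₀ : F φ₀ = Cfsg.blockOf M (χ : G → ℂ) := isInduced_unique hM (hF φ₀) hind
      rw [← Finset.sum_filter]
      refine (Finset.sum_congr ?_ fun _ _ => rfl).trans (hfib φ₀)
      ext φ
      simp only [Finset.mem_filter, Finset.mem_univ, true_and, FF]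
      rw [← horb, hF₀]
      exact ⟨fun hm => block_eq_of_mem hM hB (hF φ).2.1 hχ hm, fun e => e ▸ hχ⟩
  rw [Nat.card_eq_fintype_card, Fintype.card_subtype, Finset.card_filter, Nat.cast_sum]
  rw [Finset.sum_congr rfl fun (χ : Cfsg.IrrCharacter G) _ => show
    (((if ¬ p ∣ Cfsg.charDegree (χ : G → ℂ) then 1 else 0 : ℕ)) : ℚ) =
      ∑ φ : Cfsg.IrrCharacter K, if χ ∈ FF φ then ((orb D φ).card : ℚ)⁻¹ else 0 by
    rw [hsum]; split_ifs <;> simp, Finset.sum_comm]
  refine Finset.sum_congr rfl fun φ _ => ?_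
  rw [Finset.sum_ite_mem, Finset.univ_inter, Finset.sum_const, hcard, nsmul_eq_mul, weight,
    div_eq_mul_inv]

include D in
/-- Transport of the weights to the normaliser. -/
theorem card_pPrime_degree_eq_classes (hM : Cfsg.IsPModular p M) :
    Nat.card {χ : Cfsg.IrrCharacter G // ¬ p ∣ Cfsg.charDegree (χ : G → ℂ)} =
      Nat.card (ConjClasses NP) := by
  classical
  have hp : p.Prime := Fact.out
  set P' : Sylow p NP := P.subtype Subgroup.le_normalizer with hP'
  have hP'c : (P' : Subgroup NP) = (P : Subgroup G).subgroupOf NP := Sylow.coe_subtype _ _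
  haveI hPn : (P' : Subgroup NP).Normal := by rw [hP'c]; exact normal_subgroupOf le_rfl
  have hcardP' : Nat.card (P' : Subgroup NP) = p := by
    rw [hP'c, Nat.card_congr (Subgroup.subgroupOfEquivOfLe Subgroup.le_normalizer).toEquiv,
      D.card_sylow]
  obtain ⟨g', K', h', u', D'⟩ := exists_primeData P' hcardP'
  haveI := Fintype.ofFinite K'
  haveI := Fintype.ofFinite (Cfsg.IrrCharacter K)
  haveI := Fintype.ofFinite (Cfsg.IrrCharacter K')
  have hcent : ∀ x : NP, x ∈ Subgroup.centralizer ((P' : Subgroup NP) : Set NP) ↔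
      (x : G) ∈ CP := fun x => by
    rw [hP'c]
    exact mem_centralizer_subgroupOf Subgroup.le_normalizer
  have hnorm : ∀ x : NP, x ∈ Subgroup.normalizer ((P' : Subgroup NP) : Set NP) := fun x =>
    (Subgroup.normalizer_eq_top (P' : Subgroup NP)).ge (Subgroup.mem_top x)
  have hmemK : ∀ x : NP, x ∈ K' ↔ (x : G) ∈ K := fun x => by
    rw [D'.mem_iff, D.mem_iff, hcent, Subgroup.orderOf_coe]
  have hKN : K ≤ NP := (k_le_centralizer D).trans (Subgroup.centralizer_le_normalizer _)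
  let eK : K' ≃* K :=
    { toFun := fun x => ⟨((x : NP) : G), (hmemK x).1 x.2⟩
      invFun := fun k => ⟨⟨k, hKN k.2⟩, (hmemK ⟨k, hKN k.2⟩).2 k.2⟩
      left_inv := fun x => rfl
      right_inv := fun k => rfl
      map_mul' := fun x y => rfl }
  let eI : Cfsg.IrrCharacter K ≃ Cfsg.IrrCharacter K' :=
    { toFun := fun φ => ⟨(φ : K → ℂ) ∘ eK, (isIrrCharacter_comp_mulEquiv eK).2 φ.2⟩
      invFun := fun φ => ⟨(φ : K' → ℂ) ∘ eK.symm, (isIrrCharacter_comp_mulEquiv eK.symm).2 φ.2⟩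
      left_inv := fun φ => Subtype.ext (funext fun k => by simp)
      right_inv := fun φ => Subtype.ext (funext fun k => by simp) }
  have hcj : ∀ (φ : Cfsg.IrrCharacter K)
      (x : Subgroup.normalizer ((P' : Subgroup NP) : Set NP)),
      cjI D' x (eI φ) = eI (cjI D (x : NP) φ) := fun φ x => Subtype.ext (funext fun k => rfl)
  have hu : orderOf u' = orderOf u := by
    rw [D'.order_u, D.order_u,
      show Subgroup.normalizer ((P' : Subgroup NP) : Set NP) = ⊤ from Subgroup.normalizer_eq_top _,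
      show Subgroup.centralizer ((P' : Subgroup NP) : Set NP) = (CP : Subgroup G).subgroupOf NP from
        Subgroup.ext fun x => (hcent x).trans Subgroup.mem_subgroupOf.symm,
      Subgroup.relIndex_top_right]
    rfl
  have hinertia : ∀ φ, inertia D' (eI φ) = (inertia D φ).subgroupOf NP := by
    intro φ
    ext x
    rw [Subgroup.mem_subgroupOf, mem_inertia, mem_inertia]
    constructor
    · rintro ⟨hx, e⟩
      rw [hcj] at e
      exact ⟨x.2, eI.injective e⟩
    · rintro ⟨_, e⟩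
      exact ⟨hnorm x, by rw [hcj]; exact congrArg eI e⟩
  have hsg : ∀ φ, Nat.card (sgp D' (eI φ)) = Nat.card (sgp D φ) := by
    intro φ
    rw [← relIndex_inertia, ← relIndex_inertia, hinertia,
      show Subgroup.centralizer ((P' : Subgroup NP) : Set NP) = (CP : Subgroup G).subgroupOf NP from
        Subgroup.ext fun x => (hcent x).trans Subgroup.mem_subgroupOf.symm,
      Subgroup.relIndex_subgroupOf (inertia_le_normalizer D φ)]
  have hw : ∀ φ, weight D' (eI φ) = weight D φ := by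
    intro φ
    have h1 := card_orb_mul D' (eI φ)
    rw [hsg, hu, ← card_orb_mul D φ] at h1
    rw [weight, weight, hsg, Nat.eq_of_mul_eq_mul_left Nat.card_pos h1]
  have hG := card_pPrime_degree D hM
  have hN := card_pPrime_degree D' hM
  rw [← Equiv.sum_comp eI, Finset.sum_congr rfl fun φ _ => hw φ, ← hG, Nat.cast_inj] at hN
  rw [← hN, ← card_irrCharacter]
  refine Nat.card_congr (Equiv.subtypeUnivEquiv fun χ => ?_)
  haveI : Fact (Nat.card (P' : Subgroup NP)).Prime := ⟨hcardP'.symm ▸ hp⟩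
  haveI : IsCyclic (P' : Subgroup NP) := isCyclic_of_prime_card hcardP'
  obtain ⟨d, hd1, hd2⟩ := Cfsg.Agent.CharTheory.Ito.degree_dvd_index_abelian (P' : Subgroup NP)
    (fun a ha b hb => congrArg Subtype.val
      (IsCyclic.commGroup.mul_comm (⟨a, ha⟩ : (P' : Subgroup NP)) ⟨b, hb⟩)) χ.2
  intro hdvd
  refine P'.not_dvd_index (hdvd.trans ?_)
  rwa [show Cfsg.charDegree (χ : NP → ℂ) = d from
    Nat.cast_injective (R := ℂ) (by rw [charDegree_cast, hd1])]

end Cfsg.Agent.Blocks.PrimeBlock
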